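import Cfsg.Agent.H882.Ten.TI
import Mathlib
import Cfsg.Agent.H880.TI
import Cfsg.Agent.H879.QuadPair
import Cfsg.Agent.H883.Tensor
set_option linter.all false

-- part: H882/Ten/TITwo
section
/-!
# The root elements `1 ⊗ siegel w x` are TI in a proper overgroup (`dim U < dim W`): main theorem
-/

set_option autoImplicit false
set_option linter.unusedSimpArgs false
set_option linter.unusedSectionVars false

namespace Cfsg.Agent.H882.Ten

open QuadraticMap hiding proj
open Cfsg.Agent.LieClassical.OrthCore Cfsg.Agent.LieClassical.OrthTrans Cfsg.Agent.H883.Root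

/-- A nonzero skew operator has rank at least two. -/
theorem skew_two {F U : Type*} [Field F] [AddCommGroup U] [Module F U] {QU : QuadraticForm F U}
    (h2 : (2 : F) ≠ 0) (hQ : Nondeg QU) {n : U →ₗ[F] U}
    (hsk : ∀ u u', polar QU (n u) u' = - polar QU u (n u')) {u1 : U} (hu1 : n u1 ≠ 0) :
    ∃ u2, ∀ c : F, n u2 ≠ c • n u1 := by
  by_contra hcon
  push Not at hcon
  apply hu1
  have h1 : polar QU (n u1) u1 = 0 := by
    have h3 := hsk u1 u1
    rw [polar_comm QU u1] at h3
    have h5 : 2 * polar QU (n u1) u1 = 0 := by linear_combination h3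
    exact (mul_eq_zero.1 h5).resolve_left h2
  refine hQ _ fun u => ?_
  obtain ⟨c, hc⟩ := hcon u
  rw [hsk, hc, polar_smul_right, polar_comm, h1]
  simp

variable {F : Type*} {U : Type*} {W : Type*} {V : Type*} [Field F] [AddCommGroup U] [Module F U]
  [AddCommGroup W] [Module F W] [AddCommGroup V] [Module F V]
  {t : U →ₗ[F] W →ₗ[F] V} {QU : QuadraticForm F U} {QW : QuadraticForm F W} {Q : QuadraticForm F V}
  {X : Subgroup (V ≃ₗ[F] V)}

namespace TSt

variable (S : TSt t QU QW Q)

include S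

theorem siegel_sub {w x : W} (hw : QW w = 0) (hx : QW x = 0) (hwx : polar QW w x = 0) (v : V) :
    Ten.rW S.ten (siegel QW w x hw hwx) v - v = t (S.cw w v) x - t (S.cw x v) w := by
  have : (Ten.rW S.ten (siegel QW w x hw hwx) : V →ₗ[F] V) - LinearMap.id =
      t.flip x ∘ₗ S.cw w - t.flip w ∘ₗ S.cw x := by
    refine ext_t S.ten fun u z => ?_
    simp only [LinearMap.comp_apply, LinearMap.sub_apply, LinearMap.id_apply, LinearEquiv.coe_coe,
      rW_apply, LinearMap.flip_apply, S.cw_t, siegel_apply, hx, map_add, map_sub, map_smul, LinearMap.smul_apply]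
    module
  exact LinearMap.congr_fun this v

theorem siegel_ne {w x : W} (hw : QW w = 0) (hx : QW x = 0) (hwx : polar QW w x = 0) (hw0 : w ≠ 0)
    (hind : ∀ c : F, x ≠ c • w) : ∃ z, siegel QW w x hw hwx z ≠ z := by
  obtain ⟨z, h1, h2⟩ := exists_sep S.ndW hind
  refine ⟨z, fun h => hw0 ?_⟩
  rw [siegel_apply, h1, h2, hx] at h
  have : z + (0 : F) • x - (1 : F) • w - (0 * 0 : F) • w = z - w := by module
  rw [this] at h
  exact sub_eq_self.1 h

/-- **TI for root elements.** -/
theorem mem_TT_of_conj [Finite F] [FiniteDimensional F U] [FiniteDimensional F W] [FiniteDimensional F V]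
    (hX : Prop1 S X) (hab : Module.finrank F U < Module.finrank F W) {w x : W} (hw : QW w = 0) (hx : QW x = 0)
    (hwx : polar QW w x = 0) (hw0 : w ≠ 0) (hind : ∀ c : F, x ≠ c • w) {g : V ≃ₗ[F] V} (hg : g ∈ X)
    (hgT : g * Ten.rW S.ten (siegel QW w x hw hwx) * g⁻¹ ∈ TT t S.ten) : g ∈ TT t S.ten := by
  have hO := S.ovg hX
  have hgO := hO.le hg
  have hUn : Nontrivial U := Module.nontrivial_of_finrank_pos (R := F) (by have := hX.dU; omega)
  have hWn : Nontrivial W := Module.nontrivial_of_finrank_pos (R := F) (by have := hX.hW.dim; omega)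
  obtain ⟨k, l, hkl⟩ := hgT
  set d := Ten.rW S.ten (siegel QW w x hw hwx) with hd
  set e := tm S.ten k l with he
  have hdX : d ∈ X := hO.rW _ (siegel_mem_E hw hwx)
  have heX : e ∈ X := by rw [← hkl]; exact X.mul_mem (X.mul_mem hg hdX) (X.inv_mem hg)
  have heg : ∀ v, e v = g (d (g⁻¹ v)) := fun v => by rw [← hkl]; rfl
  have hgg : ∀ v, g (g⁻¹ v) = v := fun v => LinearEquiv.apply_symm_apply g _
  have hgg' : ∀ v, g⁻¹ (g v) = v := fun v => LinearEquiv.symm_apply_apply g _
  -- `(e - 1) v`
  have hsub : ∀ v, e v - v = g (t (S.cw w (g⁻¹ v)) x - t (S.cw x (g⁻¹ v)) w) := by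
    intro v
    rw [← S.siegel_sub hw hx hwx, ← hd, map_sub g, hgg, heg]
  have hsq : ∀ v, e (e v - v) - (e v - v) = 0 := by
    intro v
    have h1 := S.siegel_sub_sq hw hwx (g⁻¹ v)
    rw [← hd, hx, mul_zero, neg_zero, zero_smul] at h1
    have h5 : g (d (g⁻¹ v) - g⁻¹ v) = e v - v := by rw [map_sub g, hgg, heg]
    have h6 : g⁻¹ (e v - v) = d (g⁻¹ v) - g⁻¹ v := by rw [← h5, hgg']
    have h7 : e (e v - v) = g (d (d (g⁻¹ v) - g⁻¹ v)) := by rw [heg (e v - v), h6]
    rw [h7, ← h5, ← map_sub g, h1, map_zero]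
  have het : ∀ u z, e (t u z) = t (k u) (l z) := fun u z => tm_apply _ _ _ _ _
  -- `e ≠ 1`
  have hne : ¬ ∀ v, e v = v := by
    intro h
    obtain ⟨z, hz⟩ := S.siegel_ne hw hx hwx hw0 hind
    obtain ⟨a, ha⟩ := exists_ne (0 : U)
    have h1 := h (g (t a z))
    rw [heg, hgg'] at h1
    have h2 : d (t a z) = t a z := g.injective h1
    rw [hd, rW_apply] at h2
    exact hz (t_right_inj S.ten ha h2)
  by_cases hk : ∀ u, ∃ c : F, k u = c • u
  · -- `e = 1 ⊗ l'`
    obtain ⟨c, hc⟩ := scalar_of_all (k : U →ₗ[F] U) hk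
    have hc' : ∀ u, k u = c • u := hc
    obtain ⟨z, hz⟩ : ∃ z, c • l z - z ≠ 0 := by
      by_contra hcon
      push Not at hcon
      apply hne
      intro v
      have : (e : V →ₗ[F] V) = LinearMap.id := by
        refine ext_t S.ten fun u z => ?_
        show e (t u z) = t u z
        rw [het, hc', map_smul, LinearMap.smul_apply, ← map_smul, sub_eq_zero.1 (hcon z)]
      exact LinearMap.congr_fun this v
    refine S.mem_TT_of_line hX hw hx hwx hind hw0 hg hz fun u => ?_
    refine ⟨-(S.cw x (g⁻¹ (t u z))), S.cw w (g⁻¹ (t u z)), ?_⟩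
    have h1 : t u (c • l z - z) = e (t u z) - t u z := by
      rw [het, hc', map_sub, map_smul, map_smul]; rfl
    rw [h1, hsub, hgg', map_neg, LinearMap.neg_apply]
    abel
  · -- `e = k' ⊗ 1`: impossible
    exfalso
    push Not at hk
    obtain ⟨u, hu⟩ := hk
    have hu0 : u ≠ 0 := by
      rintro rfl
      exact hu 0 (by simp)
    have heq : ∀ z, t (k (k u)) (l (l z)) - (2 : F) • t (k u) (l z) + t u z = 0 := by
      intro z
      have h1 := hsq (t u z)
      rw [het, map_sub e, het, het] at h1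
      rw [← h1]
      module
    obtain ⟨φ, hφ1, hφ2⟩ := exists_ne_of_ne hu
    have hspan : k (k u) ∈ Submodule.span F {u, k u} := by
      by_contra hnot
      obtain ⟨ψ, hψ, hψ'⟩ := Submodule.exists_le_ker_of_notMem hnot
      have hψ1 : ψ u = 0 := hψ' (Submodule.subset_span (by simp))
      have hψ2 : ψ (k u) = 0 := hψ' (Submodule.subset_span (by simp))
      obtain ⟨z, hz⟩ := exists_ne (0 : W)
      have h1 := congrArg (cU S.ten ψ) (heq z)
      simp only [map_add, map_sub, map_smul, cU_apply, hψ1, hψ2, zero_smul, smul_zero, sub_zero, add_zero,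
        map_zero] at h1
      have h2 := (smul_eq_zero.1 h1).resolve_left hψ
      exact hz (l.injective (l.injective (by rw [h2]; simp)))
    obtain ⟨α, β, hαβ⟩ := Submodule.mem_span_pair.1 hspan
    have hβ : ∀ z, β • l z = (2 : F) • z := by
      intro z
      have h1 := congrArg (cU S.ten φ) (heq z)
      rw [← hαβ] at h1
      simp only [map_add, map_sub, map_smul, cU_apply, hφ1, LinearMap.add_apply, LinearMap.smul_apply,
        zero_smul, smul_zero, add_zero, map_zero, zero_add] at h1
      have h2 : φ (k u) • (l (β • l z - (2 : F) • z)) = 0 := by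
        rw [map_sub, map_smul, map_smul, ← h1]
        module
      have h3 := (smul_eq_zero.1 h2).resolve_left hφ2
      exact sub_eq_zero.1 (l.injective (by rw [h3, map_zero]))
    have hβ0 : β ≠ 0 := by
      rintro rfl
      obtain ⟨z, hz⟩ := exists_ne (0 : W)
      have := hβ z
      rw [zero_smul] at this
      exact hz ((smul_eq_zero.1 this.symm).resolve_left S.two)
    have hl : ∀ z, l z = (β⁻¹ * 2) • z := by
      intro z
      rw [← smul_smul, ← hβ, smul_smul, inv_mul_cancel₀ hβ0, one_smul]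
    let n : U →ₗ[F] U := (β⁻¹ * 2) • (k : U →ₗ[F] U) - LinearMap.id
    have hn : ∀ a, n a = (β⁻¹ * 2) • k a - a := fun a => rfl
    have hen : ∀ a z, e (t a z) = t a z + t (n a) z := by
      intro a z
      rw [het, hl, hn, map_smul, map_sub, map_smul]
      simp only [LinearMap.sub_apply, LinearMap.smul_apply]
      module
    have hnn : ∀ a, n (n a) = 0 := by
      intro a
      obtain ⟨z, hz⟩ := exists_ne (0 : W)
      have h1 := hsq (t a z)
      rw [hen, add_sub_cancel_left, hen, add_sub_cancel_left] at h1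
      exact eq_zero_of_t S.ten h1 hz
    obtain ⟨z1, hz1⟩ := exists_ne (0 : W)
    obtain ⟨z2, hz2⟩ := S.ndW.exists_polar_eq hz1 1
    have hiso : ∀ a b, polar QU (a + n a) (b + n b) = polar QU a b := by
      intro a b
      have h1 := polar_map (hO.le heX) (t a z1) (t b z2)
      rw [hen, hen, ← LinearMap.add_apply, ← LinearMap.add_apply, ← map_add, ← map_add, S.pol, S.pol, hz2,
        mul_one, mul_one] at h1
      exact h1
    have hnn2 : ∀ a b, polar QU (n a) (n b) = 0 := by
      intro a b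
      have h1 := hiso (n a) b
      rw [hnn, add_zero, polar_add_right] at h1
      linear_combination h1
    have hsk : ∀ a b, polar QU (n a) b = - polar QU a (n b) := by
      intro a b
      have h1 := hiso a b
      rw [polar_add_left, polar_add_right, polar_add_right, hnn2] at h1
      linear_combination h1
    obtain ⟨u1, hu1⟩ : ∃ u1, n u1 ≠ 0 := by
      by_contra hcon
      push Not at hcon
      apply hne
      intro v
      have : (e : V →ₗ[F] V) = LinearMap.id := by
        refine ext_t S.ten fun u z => ?_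
        show e (t u z) = t u z
        rw [hen, hcon, map_zero, LinearMap.zero_apply, add_zero]
      exact LinearMap.congr_fun this v
    obtain ⟨u2, hu2⟩ := skew_two S.two S.ndU hsk hu1
    let f : (W × W) →ₗ[F] V := (t (n u1)).coprod (t (n u2))
    let h : (U × U) →ₗ[F] V := (g : V →ₗ[F] V) ∘ₗ ((t.flip w).coprod (t.flip x))
    have hf : ∀ a b, f (a, b) = t (n u1) a + t (n u2) b := fun a b => by simp [f]
    have hh : ∀ a b, h (a, b) = g (t a w + t b x) := fun a b => by simp [h]
    have hfinj : Function.Injective f := by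
      rw [← LinearMap.ker_eq_bot, LinearMap.ker_eq_bot']
      rintro ⟨a, b⟩ hab'
      rw [hf] at hab'
      have hb := eq_zero_of_add S.ten hab' hu2
      rw [hb, map_zero, add_zero] at hab'
      have ha : a = 0 := t_right_inj S.ten hu1 (by rw [hab', map_zero])
      rw [ha, hb]; rfl
    have hle : LinearMap.range f ≤ LinearMap.range h := by
      rintro _ ⟨⟨a, b⟩, rfl⟩
      have h1 : f (a, b) = (e (t u1 a) - t u1 a) + (e (t u2 b) - t u2 b) := by
        rw [hf, hen, hen]; abel
      rw [h1, hsub, hsub]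
      refine Submodule.add_mem _ ?_ ?_
      · exact ⟨(-(S.cw x (g⁻¹ (t u1 a))), S.cw w (g⁻¹ (t u1 a))), by
          rw [hh, map_neg, LinearMap.neg_apply]; congr 1; abel⟩
      · exact ⟨(-(S.cw x (g⁻¹ (t u2 b))), S.cw w (g⁻¹ (t u2 b))), by
          rw [hh, map_neg, LinearMap.neg_apply]; congr 1; abel⟩
    have e1 := LinearMap.finrank_range_of_inj hfinj
    have e2 := Submodule.finrank_mono hle
    have e3 : Module.finrank F (LinearMap.range h) ≤ Module.finrank F (U × U) := LinearMap.finrank_range_le h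
    rw [Module.finrank_prod] at e1 e3
    omega

end TSt

end Cfsg.Agent.H882.Ten
end

-- part: H891/QuadPair
section
/-!
# Pairs of square-zero elements

`A` an `F`-algebra, `N, K ∈ A` with `N² = K² = 0`, `Θ = N K + K N` (it commutes with `N` and `K`).  Every element of a group
generated by elements `1 + λ N`, `1 + μ K` has a normal form `1 + Θ r + b N + c K + d N K` with `r, b, c, d ∈ F[Θ]`,
whose inverse is the formal conjugate.
-/

set_option autoImplicit false
set_option linter.unusedSectionVars false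

open Polynomial

namespace Cfsg.Agent.H891.QP

variable {F A : Type*} [Field F] [Ring A] [Algebra F A]

/-- The central element `N K + K N`. -/
def th (N K : A) : A := N * K + K * N

theorem th_comm_left {N K : A} (hN : N * N = 0) : N * th N K = th N K * N := by
  unfold th
  have h1 : N * (N * K + K * N) = N * N * K + N * K * N := by noncomm_ring
  have h2 : (N * K + K * N) * N = N * K * N + K * (N * N) := by noncomm_ring
  rw [h1, h2, hN]; simp

theorem th_comm_right {N K : A} (hK : K * K = 0) : K * th N K = th N K * K := by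
  unfold th
  have h1 : K * (N * K + K * N) = K * N * K + K * K * N := by noncomm_ring
  have h2 : (N * K + K * N) * K = N * (K * K) + K * N * K := by noncomm_ring
  rw [h1, h2, hK]; simp

/-- `F[Θ] → A` -/
noncomputable def ph (N K : A) (p : F[X]) : A := aeval (th N K) p

section
variable {N K : A}

theorem ph_add (p q : F[X]) : ph N K (p + q) = ph N K p + ph N K q := by simp [ph]
theorem ph_sub (p q : F[X]) : ph N K (p - q) = ph N K p - ph N K q := by simp [ph]
theorem ph_neg (p : F[X]) : ph N K (-p) = -ph N K p := by simp [ph]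
theorem ph_mul (p q : F[X]) : ph N K (p * q) = ph N K p * ph N K q := by simp [ph]
theorem ph_one : ph N K (1 : F[X]) = 1 := by simp [ph]
theorem ph_zero : ph N K (0 : F[X]) = 0 := by simp [ph]
theorem ph_X : ph N K (X : F[X]) = th N K := by simp [ph]
theorem ph_C (c : F) : ph N K (C c : F[X]) = algebraMap F A c := by simp [ph]

theorem comm_ph {x : A} (h : x * th N K = th N K * x) (p : F[X]) : x * ph N K p = ph N K p * x := by
  have h1 : Commute x (th N K) := h
  have h2 : Commute x (aeval (th N K) p) := by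
    induction p using Polynomial.induction_on' with
    | add p q hp hq => simpa using hp.add_right hq
    | monomial n a =>
      rw [aeval_monomial]
      exact (show Commute x (algebraMap F A a) from (Algebra.commutes a x).symm).mul_right (h1.pow_right n)
  exact h2

theorem N_ph (hN : N * N = 0) (p : F[X]) : N * ph N K p = ph N K p * N := comm_ph (th_comm_left hN) p
theorem K_ph (hK : K * K = 0) (p : F[X]) : K * ph N K p = ph N K p * K := comm_ph (th_comm_right hK) p

/-- Normal form. -/
noncomputable def nf (N K : A) (a b c d : F[X]) : A :=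
  ph N K a + ph N K b * N + ph N K c * K + ph N K d * (N * K)

theorem nf_mul (hN : N * N = 0) (hK : K * K = 0) (a b c d a' b' c' d' : F[X]) :
    nf N K a b c d * nf N K a' b' c' d' =
      nf N K (a * a' + c * b' * X) (a * b' + b * a' + d * b' * X) (a * c' + c * a' + c * d' * X)
        (a * d' + b * c' - c * b' + d * a' + d * d' * X) := by
  have n1 : ∀ p : F[X], N * ph N K p = ph N K p * N := N_ph hN
  have k1 : ∀ p : F[X], K * ph N K p = ph N K p * K := K_ph hK
  have n2 : ∀ (p : F[X]) (x : A), N * (ph N K p * x) = ph N K p * (N * x) := by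
    intro p x; rw [← mul_assoc, n1, mul_assoc]
  have k2 : ∀ (p : F[X]) (x : A), K * (ph N K p * x) = ph N K p * (K * x) := by
    intro p x; rw [← mul_assoc, k1, mul_assoc]
  have n3 : ∀ x : A, N * (N * x) = 0 := by intro x; rw [← mul_assoc, hN, zero_mul]
  have kn : K * N = ph N K (X : F[X]) - N * K := by rw [ph_X]; unfold th; noncomm_ring
  have kn3 : ∀ x : A, K * (N * x) = ph N K (X : F[X]) * x - N * (K * x) := by
    intro x; rw [← mul_assoc, kn, sub_mul, mul_assoc N K x]
  have pm : ∀ (p q : F[X]), ph N K p * ph N K q = ph N K (p * q) := fun p q => (ph_mul p q).symm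
  have pm2 : ∀ (p q : F[X]) (x : A), ph N K p * (ph N K q * x) = ph N K (p * q) * x := by
    intro p q x; rw [← mul_assoc, pm]
  unfold nf
  simp only [mul_add, add_mul, mul_assoc, n1, k1, n2, k2, hN, hK, n3, kn, kn3, pm, pm2, mul_zero, mul_sub,
    add_zero, sub_zero, ph_add, ph_sub, sub_mul]
  abel

theorem nf_ph (p : F[X]) : nf N K p 0 0 0 = ph N K p := by simp [nf, ph_zero]

theorem nf_congr {a b c d a' b' c' d' : F[X]} (h1 : a = a') (h2 : b = b') (h3 : c = c') (h4 : d = d') :
    nf N K a b c d = nf N K a' b' c' d' := by rw [h1, h2, h3, h4]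

theorem ph_comm_nf (hN : N * N = 0) (hK : K * K = 0) (p a b c d : F[X]) :
    ph N K p * nf N K a b c d = nf N K a b c d * ph N K p := by
  rw [← nf_ph, nf_mul hN hK, nf_mul hN hK]
  apply nf_congr <;> ring

/-- `u = 1 + l N` or `u = 1 + m K`. -/
def IsGen (F : Type*) {A : Type*} [Field F] [Ring A] [Algebra F A] (N K : A) (u : Aˣ) : Prop :=
  (∃ l : F, (u : A) = 1 + l • N) ∨ ∃ m : F, (u : A) = 1 + m • K

/-- The normal form of an element and of its inverse. -/
def HasNF (F : Type*) {A : Type*} [Field F] [Ring A] [Algebra F A] (N K : A) (g : Aˣ) : Prop :=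
  ∃ r b c d : F[X], (g : A) = nf N K (1 + X * r) b c d ∧
    ((g⁻¹ : Aˣ) : A) = nf N K (1 + X * r + d * X) (-b) (-c) (-d)

theorem unit_inv_of {u : Aˣ} {x : A} (h : (u : A) * x = 1) : ((u⁻¹ : Aˣ) : A) = x := by
  have := congrArg (fun y => ((u⁻¹ : Aˣ) : A) * y) h
  simp only [Units.inv_mul_cancel_left, mul_one] at this
  exact this.symm

theorem hasNF_of_isGen (hN : N * N = 0) (hK : K * K = 0) {u : Aˣ} (h : IsGen F N K u) : HasNF F N K u := by
  rcases h with ⟨l, h⟩ | ⟨m, h⟩
  · have e : (u : A) = nf N K (1 + X * 0) (C l) 0 0 := by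
      rw [h]; simp only [nf, ph_zero, mul_zero, add_zero, ph_one, ph_C, zero_mul, Algebra.smul_def]
    refine ⟨0, C l, 0, 0, e, unit_inv_of ?_⟩
    rw [e, nf_mul hN hK]
    have : nf N K (1 : F[X]) 0 0 0 = 1 := by rw [nf_ph, ph_one]
    rw [← this]
    apply nf_congr <;> ring
  · have e : (u : A) = nf N K (1 + X * 0) 0 (C m) 0 := by
      rw [h]; simp only [nf, ph_zero, mul_zero, add_zero, ph_one, ph_C, zero_mul, Algebra.smul_def]
    refine ⟨0, 0, C m, 0, e, unit_inv_of ?_⟩
    rw [e, nf_mul hN hK]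
    have : nf N K (1 : F[X]) 0 0 0 = 1 := by rw [nf_ph, ph_one]
    rw [← this]
    apply nf_congr <;> ring

theorem HasNF.mul (hN : N * N = 0) (hK : K * K = 0) {g h : Aˣ} (hg : HasNF F N K g) (hh : HasNF F N K h) :
    HasNF F N K (g * h) := by
  obtain ⟨r, b, c, d, e1, e2⟩ := hg
  obtain ⟨r', b', c', d', f1, f2⟩ := hh
  refine ⟨r + r' + X * r * r' + c * b', (1 + X * r) * b' + b * (1 + X * r') + d * b' * X,
    (1 + X * r) * c' + c * (1 + X * r') + c * d' * X,
    (1 + X * r) * d' + b * c' - c * b' + d * (1 + X * r') + d * d' * X, ?_, ?_⟩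
  · rw [Units.val_mul, e1, f1, nf_mul hN hK]
    apply nf_congr <;> ring
  · rw [mul_inv_rev, Units.val_mul, e2, f2, nf_mul hN hK]
    apply nf_congr <;> ring

theorem HasNF.inv {g : Aˣ} (hg : HasNF F N K g) : HasNF F N K g⁻¹ := by
  obtain ⟨r, b, c, d, e1, e2⟩ := hg
  refine ⟨r + d, -b, -c, -d, ?_, ?_⟩
  · rw [e2]; apply nf_congr <;> ring
  · rw [inv_inv, e1]; apply nf_congr <;> ring

theorem hasNF_of_mem (hN : N * N = 0) (hK : K * K = 0) {S : Set Aˣ} (hS : ∀ u ∈ S, IsGen F N K u) {g : Aˣ}
    (hg : g ∈ Subgroup.closure S) : HasNF F N K g := by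
  induction hg using Subgroup.closure_induction with
  | mem x hx => exact hasNF_of_isGen hN hK (hS x hx)
  | one =>
    refine ⟨0, 0, 0, 0, ?_, ?_⟩
    · rw [mul_zero, add_zero, nf_ph, ph_one]; rfl
    · rw [mul_zero, add_zero, zero_mul, add_zero, neg_zero, nf_ph, ph_one]; simp
  | mul x y _ _ hx hy => exact hx.mul hN hK hy
  | inv x _ hx => exact hx.inv

/-- `g + g⁻¹ = 2 + Θ s`. -/
theorem HasNF.add_inv {g : Aˣ} (hg : HasNF F N K g) :
    ∃ s : F[X], (g : A) + ((g⁻¹ : Aˣ) : A) = ph N K (2 + X * s) := by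
  obtain ⟨r, b, c, d, e1, e2⟩ := hg
  refine ⟨2 * r + d, ?_⟩
  rw [e1, e2]
  unfold nf
  rw [show (2 + X * (2 * r + d) : F[X]) = (1 + X * r) + (1 + X * r + d * X) by ring]
  simp only [ph_add, ph_neg]
  noncomm_ring

/-- An involution (or 1) with a normal form is `1 + Θ s`. -/
theorem HasNF.invol (h2 : (2 : F) ≠ 0) {g : Aˣ} (hg : HasNF F N K g) (hgg : g * g = 1) :
    ∃ s : F[X], (g : A) = ph N K (1 + X * s) := by
  obtain ⟨s, hs⟩ := hg.add_inv
  have hi : g⁻¹ = g := inv_eq_of_mul_eq_one_left hgg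
  rw [hi] at hs
  refine ⟨C (2 : F)⁻¹ * s, ?_⟩
  have e : (g : A) = (2 : F)⁻¹ • ((g : A) + (g : A)) := by
    rw [← two_smul F (g : A), smul_smul, inv_mul_cancel₀ h2, one_smul]
  rw [e, hs, Algebra.smul_def, ← ph_C (N := N) (K := K), ← ph_mul]
  congr 1
  have : (C (2 : F)⁻¹ : F[X]) * 2 = 1 := by
    rw [← C_ofNat, ← C_mul, inv_mul_cancel₀ h2, C_1]
  rw [mul_add, this]; ring

theorem HasNF.sub_one_sq (hN : N * N = 0) (hK : K * K = 0) {g : Aˣ} (hg : HasNF F N K g) :
    ∃ s : F[X], ((g : A) - 1) * ((g : A) - 1) = th N K * (ph N K s * (g : A)) ∧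
      Commute (th N K) (ph N K s * (g : A)) := by
  obtain ⟨s, hs⟩ := hg.add_inv
  have hc : ∀ p : F[X], Commute (ph N K p) (g : A) := by
    intro p
    obtain ⟨r, b, c, d, e1, e2⟩ := hg
    rw [e1]; exact ph_comm_nf hN hK p _ _ _ _
  refine ⟨s, ?_, ?_⟩
  · have h1 : (g : A) * (g : A) + 1 = ph N K (2 + X * s) * (g : A) := by
      rw [← hs, add_mul, Units.inv_mul]
    rw [ph_add, ph_mul, ph_X] at h1
    have h2 : ph N K (2 : F[X]) = 2 := by unfold ph; exact map_ofNat _ 2
    rw [h2] at h1
    have : ((g : A) - 1) * ((g : A) - 1) = ((g : A) * (g : A) + 1) - 2 * (g : A) := by noncomm_ring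
    rw [this, h1]
    noncomm_ring
  · have h3 : Commute (th N K) (ph N K s) := by
      rw [← ph_X (F := F)]; show _ * _ = _ * _; rw [← ph_mul, ← ph_mul, mul_comm]
    have h4 : Commute (th N K) (g : A) := by rw [← ph_X (F := F)]; exact hc X
    exact h3.mul_right h4

theorem th_nilp (hN : N * N = 0) (hK : K * K = 0) (h : IsNilpotent (N * K)) : IsNilpotent (th N K) := by
  obtain ⟨n, hn⟩ := h
  have hNK : ∀ m : ℕ, (th N K) ^ m * (N * K) = (N * K) ^ (m + 1) := by
    intro m
    induction m with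
    | zero => simp
    | succ m ih =>
      rw [pow_succ' (th N K), mul_assoc, ih, pow_succ' (N * K) (m + 1), pow_succ' (N * K) m]
      unfold th
      have : K * N * (N * K * (N * K) ^ m) = K * (N * N) * K * (N * K) ^ m := by noncomm_ring
      rw [add_mul, this, hN]; simp
  have hKN : ∀ m : ℕ, (th N K) ^ m * (K * N) = K * (N * K) ^ m * N := by
    intro m
    induction m with
    | zero => simp
    | succ m ih =>
      rw [pow_succ' (th N K), mul_assoc, ih, pow_succ' (N * K) m]
      unfold th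
      have h1 : N * K * (K * (N * K) ^ m * N) = N * (K * K) * (N * K) ^ m * N := by noncomm_ring
      rw [add_mul, h1, hK]
      have h2 : K * N * (K * (N * K) ^ m * N) = K * (N * K * (N * K) ^ m) * N := by noncomm_ring
      rw [h2]; simp
  refine ⟨n + 1, ?_⟩
  rw [pow_succ]
  conv_lhs => rw [show th N K = N * K + K * N from rfl]
  rw [show (N * K + K * N) ^ n = (th N K) ^ n from rfl, mul_add, hNK, hKN, pow_succ, hn]
  simp

/-- If `N K` is nilpotent the group is a `p`-group. -/
theorem isPGroup_closure (p : ℕ) [Fact p.Prime] [CharP A p] (hN : N * N = 0) (hK : K * K = 0)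
    (hnil : IsNilpotent (N * K)) {S : Set Aˣ} (hS : ∀ u ∈ S, IsGen F N K u) :
    IsPGroup p (Subgroup.closure S) := by
  obtain ⟨n, hn⟩ := th_nilp hN hK hnil
  rintro ⟨g, hg⟩
  obtain ⟨s, hs, hc⟩ := (hasNF_of_mem (F := F) hN hK hS hg).sub_one_sq hN hK
  have h1 : (((g : A) - 1) * ((g : A) - 1)) ^ n = 0 := by
    rw [hs, hc.mul_pow, hn, zero_mul]
  have h2 : ((g : A) - 1) ^ (2 * n) = 0 := by
    rw [pow_mul, sq]; exact h1
  refine ⟨2 * n, ?_⟩
  have h3 : ((g : A)) ^ (p ^ (2 * n)) = 1 := by
    have h4 : (g : A) = 1 + ((g : A) - 1) := by abel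
    rw [h4, add_pow_char_pow_of_commute _ _ (Commute.one_left _), one_pow]
    have hle : 2 * n ≤ p ^ (2 * n) := (Nat.lt_pow_self (Fact.out : p.Prime).one_lt).le
    rw [pow_eq_zero_of_le hle h2, add_zero]
  apply Subtype.ext
  apply Units.ext
  simpa using h3

end
end Cfsg.Agent.H891.QP
end

-- part: H891/QuadOdd
section
/-!
# A solvable group of odd order with an irreducible-like two-dimensional action does not exist

`G` finite solvable of odd order acting on a space `B` over an algebraically closed field, preserving the plane spanned by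
`v, w` with determinant one; then two elements which act on the plane as unipotents with different fixed lines cannot exist.
-/

set_option autoImplicit false
set_option linter.unusedSectionVars false

open scoped commutatorElement

namespace Cfsg.Agent.H891.QO

variable {k B G : Type*} [Field k] [IsAlgClosed k] [AddCommGroup B] [Module k B] [Group G] [Finite G]

/-- `g` acts on `⟨v, w⟩` with matrix `(α β; γ δ)` of determinant one. -/
def Acts (ρ : G →* Module.End k B) (v w : B) (g : G) (α β γ δ : k) : Prop :=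
  ρ g v = α • v + γ • w ∧ ρ g w = β • v + δ • w ∧ α * δ - β * γ = 1

theorem rho_smul (ρ : G →* Module.End k B) (g : G) (c : k) (y : B) : ρ g (c • y) = c • ρ g y := map_smul _ _ _

theorem rho_inj (ρ : G →* Module.End k B) (g : G) {x y : B} (h : ρ g x = ρ g y) : x = y := by
  have h1 : ρ g⁻¹ (ρ g x) = ρ g⁻¹ (ρ g y) := by rw [h]
  have h2 : ∀ z : B, ρ g⁻¹ (ρ g z) = z := by
    intro z
    have : ρ g⁻¹ (ρ g z) = (ρ g⁻¹ * ρ g) z := rfl
    rw [this, ← map_mul, inv_mul_cancel, map_one]; rfl
  rwa [h2, h2] at h1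

theorem rho_mul (ρ : G →* Module.End k B) (g h : G) (z : B) : ρ (g * h) z = ρ g (ρ h z) := by
  rw [map_mul]; rfl

/-- Main lemma. -/
theorem false_of (hsol : Group.IsSolvable G) (hodd : Odd (Nat.card G)) (ρ : G →* Module.End k B) {v w : B}
    (hind : ∀ s t : k, s • v + t • w = 0 → s = 0 ∧ t = 0)
    (hact : ∀ g : G, ∃ α β γ δ : k, Acts ρ v w g α β γ δ)
    {t s : G} {b m : k} (hb : b ≠ 0) (hm : m ≠ 0)
    (ht1 : ρ t v = v) (ht2 : ρ t w = w + b • v) (hs1 : ρ s w = w) (hs2 : ρ s v = v + m • w) : False := by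
  classical
  -- plane
  have hP : ∀ (g : G) (x y : k), ∃ x' y' : k, ρ g (x • v + y • w) = x' • v + y' • w := by
    intro g x y
    obtain ⟨α, β, γ, δ, h1, h2, -⟩ := hact g
    refine ⟨x * α + y * β, x * γ + y * δ, ?_⟩
    rw [map_add, rho_smul, rho_smul, h1, h2]
    module
  have heq : ∀ {x y x' y' : k}, x • v + y • w = x' • v + y' • w → x = x' ∧ y = y' := by
    intro x y x' y' h
    have h1 : (x - x') • v + (y - y') • w = 0 := by
      have : (x - x') • v + (y - y') • w = (x • v + y • w) - (x' • v + y' • w) := by module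
      rw [this, h, sub_self]
    obtain ⟨h2, h3⟩ := hind _ _ h1
    exact ⟨sub_eq_zero.mp h2, sub_eq_zero.mp h3⟩
  -- derived series
  let T : ℕ → Prop := fun n => ∀ g ∈ derivedSeries G n, ρ g v = v ∧ ρ g w = w
  have hT : ∃ n, T n := by
    obtain ⟨n, hn⟩ := hsol.solvable
    refine ⟨n, fun g hg => ?_⟩
    rw [hn, Subgroup.mem_bot] at hg
    rw [hg, map_one]; exact ⟨rfl, rfl⟩
  have hT0 : ¬ T 0 := by
    intro h
    have h1 := (h s (by simp)).1
    rw [hs2] at h1
    have h2 : (0 : k) • v + m • w = 0 := by rw [zero_smul, zero_add]; simpa using h1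
    exact hm (hind _ _ h2).2
  obtain ⟨n, hn, hn'⟩ : ∃ n, T (n + 1) ∧ ¬ T n := by
    have h1 := Nat.find_spec hT
    obtain ⟨n, hn⟩ : ∃ n, Nat.find hT = n + 1 := Nat.exists_eq_succ_of_ne_zero (fun h => hT0 (by rwa [h] at h1))
    exact ⟨n, by rwa [hn] at h1, Nat.find_min hT (by omega)⟩
  set D := derivedSeries G n with hD
  have hDn : D.Normal := derivedSeries_normal G n
  have htriv : ∀ g ∈ derivedSeries G (n + 1), ∀ x y : k, ρ g (x • v + y • w) = x • v + y • w := by
    intro g hg x y
    rw [map_add, rho_smul, rho_smul, (hn g hg).1, (hn g hg).2]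
  obtain ⟨a, haD, ha⟩ : ∃ a ∈ D, ¬ (ρ a v = v ∧ ρ a w = w) := by
    by_contra h
    push Not at h
    exact hn' (fun g hg => h g hg)
  -- commutation
  have hcomm : ∀ g ∈ D, ∀ x y : k, ρ (a * g) (x • v + y • w) = ρ (g * a) (x • v + y • w) := by
    intro g hg x y
    have h1 : a * g = (g * a) * ⁅a⁻¹, g⁻¹⁆ := by
      rw [commutatorElement_def]; group
    have h2 : ⁅a⁻¹, g⁻¹⁆ ∈ derivedSeries G (n + 1) := by
      rw [derivedSeries_succ]
      exact Subgroup.commutator_mem_commutator (inv_mem haD) (inv_mem hg)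
    rw [h1, rho_mul, htriv _ h2]
  -- order of elements is odd
  have hordodd : ∀ g : G, ∃ j : ℕ, g = g ^ (2 * j) := by
    intro g
    have h1 : Odd (orderOf g) := Odd.of_dvd_nat hodd (orderOf_dvd_natCard g)
    obtain ⟨j, hj⟩ := h1
    refine ⟨j + 1, ?_⟩
    have : 2 * (j + 1) = orderOf g + 1 := by omega
    rw [this, pow_succ, pow_orderOf_eq_one, one_mul]
  have hpowsmul : ∀ (g : G) (c : k) (u : B), ρ g u = c • u → ∀ j : ℕ, ρ (g ^ j) u = c ^ j • u := by
    intro g c u h j
    induction j with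
    | zero => simp
    | succ j ih => rw [pow_succ, rho_mul, h, rho_smul, ih, smul_smul, pow_succ]; congr 1; ring
  -- a is not scalar
  have hnsc : ¬ ∃ c : k, ρ a v = c • v ∧ ρ a w = c • w := by
    rintro ⟨c, h1, h2⟩
    obtain ⟨α, β, γ, δ, e1, e2, e3⟩ := hact a
    have f1 := heq (show α • v + γ • w = c • v + (0 : k) • w by rw [← e1, h1]; simp)
    have f2 := heq (show β • v + δ • w = (0 : k) • v + c • w by rw [← e2, h2]; simp)
    rw [f1.1, f1.2, f2.2, mul_zero, sub_zero] at e3
    obtain ⟨j, hj⟩ := hordodd a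
    have hvne : v ≠ 0 := by
      rintro rfl
      have := (hind 1 0 (by simp)).1
      exact one_ne_zero this
    have hc1 : c = 1 := by
      have h3 := hpowsmul a c v h1 (2 * j)
      rw [← hj, h1, pow_mul, show c ^ 2 = 1 by rw [sq]; exact e3, one_pow] at h3
      exact smul_left_injective k hvne h3
    rw [hc1, one_smul] at h1 h2
    exact ha ⟨h1, h2⟩
  -- eigenvector
  obtain ⟨s0, t0, e, hu0ne, hu0⟩ : ∃ s0 t0 e : k, (s0 ≠ 0 ∨ t0 ≠ 0) ∧
      ρ a (s0 • v + t0 • w) = e • (s0 • v + t0 • w) := by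
    obtain ⟨α, β, γ, δ, e1, e2, e3⟩ := hact a
    by_cases hγ : γ = 0
    · refine ⟨1, 0, α, Or.inl one_ne_zero, ?_⟩
      simp only [one_smul, zero_smul, add_zero, e1, hγ]
    · obtain ⟨r, hr⟩ : ∃ r : k, r * r - (α + δ) * r + (α * δ - β * γ) = 0 := by
        have := IsAlgClosed.exists_root (Polynomial.X ^ 2 - Polynomial.C (α + δ) * Polynomial.X +
          Polynomial.C (α * δ - β * γ) : Polynomial k) (by
            have : (Polynomial.X ^ 2 - Polynomial.C (α + δ) * Polynomial.X +
              Polynomial.C (α * δ - β * γ) : Polynomial k).degree = 2 := by compute_degree!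
            rw [this]; decide)
        obtain ⟨r, hr⟩ := this
        refine ⟨r, ?_⟩
        simp only [Polynomial.IsRoot.def, Polynomial.eval_add, Polynomial.eval_sub, Polynomial.eval_mul,
          Polynomial.eval_pow, Polynomial.eval_X, Polynomial.eval_C] at hr
        linear_combination hr
      refine ⟨r - δ, γ, r, Or.inr hγ, ?_⟩
      rw [map_add, rho_smul, rho_smul, e1, e2]
      have h1 : (r - δ) • (α • v + γ • w) + γ • (β • v + δ • w) =
          ((r - δ) * α + γ * β) • v + ((r - δ) * γ + γ * δ) • w := by module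
      have h2 : r • ((r - δ) • v + γ • w) = (r * (r - δ)) • v + (r * γ) • w := by module
      rw [h1, h2]
      congr 2
      · linear_combination -hr
      · ring
  set u0 := s0 • v + t0 • w with hu0def
  have hu0ne' : u0 ≠ 0 := by
    intro h
    rcases hu0ne with h1 | h1
    · exact h1 (hind _ _ h).1
    · exact h1 (hind _ _ h).2
  -- two vectors: dependent or spanning
  have hdep : ∀ x y : k, (∃ c : k, x • v + y • w = c • u0) ∨
      (∀ z : B, (∃ x' y' : k, z = x' • v + y' • w) → ∃ c d : k, z = c • u0 + d • (x • v + y • w)) := by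
    intro x y
    by_cases hdet : s0 * y - t0 * x = 0
    · left
      rcases hu0ne with h1 | h1
      · refine ⟨x / s0, ?_⟩
        rw [hu0def, smul_add, smul_smul, smul_smul]
        congr 2
        · field_simp
        · field_simp; linear_combination hdet
      · refine ⟨y / t0, ?_⟩
        rw [hu0def, smul_add, smul_smul, smul_smul]
        congr 2
        · field_simp; linear_combination -hdet
        · field_simp
    · right
      rintro z ⟨x', y', rfl⟩
      refine ⟨(x' * y - y' * x) / (s0 * y - t0 * x), (s0 * y' - t0 * x') / (s0 * y - t0 * x), ?_⟩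
      rw [hu0def, smul_add, smul_add, smul_smul, smul_smul, smul_smul, smul_smul]
      have : (((x' * y - y' * x) / (s0 * y - t0 * x)) * s0) • v + (((x' * y - y' * x) / (s0 * y - t0 * x)) * t0) • w +
          ((((s0 * y' - t0 * x') / (s0 * y - t0 * x)) * x) • v + (((s0 * y' - t0 * x') / (s0 * y - t0 * x)) * y) • w) =
          (((x' * y - y' * x) / (s0 * y - t0 * x)) * s0 + ((s0 * y' - t0 * x') / (s0 * y - t0 * x)) * x) • v +
          (((x' * y - y' * x) / (s0 * y - t0 * x)) * t0 + ((s0 * y' - t0 * x') / (s0 * y - t0 * x)) * y) • w := by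
        module
      rw [this]
      have hd : s0 * y - t0 * x ≠ 0 := hdet
      congr 2
      · rw [div_mul_eq_mul_div, div_mul_eq_mul_div, ← add_div, eq_div_iff hd]; ring
      · rw [div_mul_eq_mul_div, div_mul_eq_mul_div, ← add_div, eq_div_iff hd]; ring
  have hv_in : ∃ x' y' : k, v = x' • v + y' • w := ⟨1, 0, by simp⟩
  have hw_in : ∃ x' y' : k, w = x' • v + y' • w := ⟨0, 1, by simp⟩
  -- e-eigenvectors
  have heig : ∀ x y : k, ρ a (x • v + y • w) = e • (x • v + y • w) → ∃ c : k, x • v + y • w = c • u0 := by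
    intro x y h
    rcases hdep x y with h1 | h1
    · exact h1
    · exfalso
      apply hnsc
      refine ⟨e, ?_, ?_⟩
      · obtain ⟨c, d, hcd⟩ := h1 v hv_in
        have : ρ a v = ρ a (c • u0 + d • (x • v + y • w)) := by rw [← hcd]
        rw [this, map_add, rho_smul, rho_smul, hu0, h]
        conv_rhs => rw [hcd]
        module
      · obtain ⟨c, d, hcd⟩ := h1 w hw_in
        have : ρ a w = ρ a (c • u0 + d • (x • v + y • w)) := by rw [← hcd]
        rw [this, map_add, rho_smul, rho_smul, hu0, h]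
        conv_rhs => rw [hcd]
        module
  have hDeig : ∀ g ∈ D, ∃ c : k, ρ g u0 = c • u0 := by
    intro g hg
    obtain ⟨x', y', hxy⟩ := hP g s0 t0
    rw [← hu0def] at hxy
    rw [hxy]
    apply heig
    rw [← hxy, ← rho_mul, hu0def, hcomm g hg, rho_mul, ← hu0def, hu0, rho_smul]
  have hDeig2 : ∀ (h : G), ∀ g ∈ D, ∃ c : k, ρ g (ρ h u0) = c • ρ h u0 := by
    intro h g hg
    obtain ⟨c, hc⟩ := hDeig (h⁻¹ * g * h) (by simpa using hDn.conj_mem g hg h⁻¹)
    refine ⟨c, ?_⟩
    rw [← rho_smul, ← hc, ← rho_mul, ← rho_mul]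
    congr 2
    group
  have hfix : ∀ h : G, ∃ c : k, ρ h u0 = c • u0 := by
    intro h
    obtain ⟨x1, y1, hu1⟩ := hP h s0 t0
    rw [← hu0def] at hu1
    rcases hdep x1 y1 with h1 | h1
    · rw [hu1]; exact h1
    exfalso
    obtain ⟨x2, y2, hu2⟩ := hP h x1 y1
    obtain ⟨s', s1, hs'⟩ := h1 (ρ h (x1 • v + y1 • w)) ⟨x2, y2, hu2⟩
    rw [← hu1] at hs' h1 hu2
    have hu1not : ¬ ∃ c : k, ρ h u0 = c • u0 := by
      rintro ⟨c, hc⟩
      obtain ⟨c1, d1, h2⟩ := h1 v hv_in
      obtain ⟨c2, d2, h3⟩ := h1 w hw_in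
      rw [hc] at h2 h3
      apply hnsc
      refine ⟨e, ?_, ?_⟩
      · have : ρ a v = ρ a (c1 • u0 + d1 • (c • u0)) := by rw [← h2]
        rw [this, map_add, rho_smul, rho_smul, rho_smul, hu0]
        conv_rhs => rw [h2]
        module
      · have : ρ a w = ρ a (c2 • u0 + d2 • (c • u0)) := by rw [← h3]
        rw [this, map_add, rho_smul, rho_smul, rho_smul, hu0]
        conv_rhs => rw [h3]
        module
    obtain ⟨e1, he1⟩ := hDeig2 h a haD
    obtain ⟨e2, he2⟩ := hDeig2 (h * h) a haD
    rw [rho_mul] at he2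
    rw [hs', map_add, rho_smul, rho_smul, hu0, he1] at he2
    have h4 : (s' * (e - e2)) • u0 + (s1 * (e1 - e2)) • ρ h u0 = 0 := by
      have : (s' * (e - e2)) • u0 + (s1 * (e1 - e2)) • ρ h u0 =
        (s' • e • u0 + s1 • e1 • ρ h u0) - e2 • (s' • u0 + s1 • ρ h u0) := by module
      rw [this, he2, sub_self]
    have hind2 : ∀ c d : k, c • u0 + d • ρ h u0 = 0 → c = 0 ∧ d = 0 := by
      intro c d hcd
      by_cases hd : d = 0
      · rw [hd, zero_smul, add_zero] at hcd
        rcases smul_eq_zero.mp hcd with h5 | h5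
        · exact ⟨h5, hd⟩
        · exact absurd h5 hu0ne'
      · exfalso
        apply hu1not
        refine ⟨-(d⁻¹ * c), ?_⟩
        have h6 : d • ρ h u0 = -(c • u0) := by
          rw [← sub_eq_zero, sub_neg_eq_add, add_comm]; exact hcd
        have h7 : ρ h u0 = d⁻¹ • (d • ρ h u0) := by rw [smul_smul, inv_mul_cancel₀ hd, one_smul]
        rw [h7, h6]; module
    obtain ⟨h5, h6⟩ := hind2 _ _ h4
    by_cases hs'0 : s' = 0
    · -- h u1 = s1 u1
      apply hu1not
      refine ⟨s1, ?_⟩
      apply rho_inj ρ h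
      rw [hs', hs'0, zero_smul, zero_add, rho_smul]
    by_cases hs10 : s1 = 0
    · -- h² u0 = s' u0
      have h7 : ρ (h * h) u0 = s' • u0 := by
        rw [rho_mul, hs', hs10, zero_smul, add_zero]
      obtain ⟨j, hj⟩ := hordodd h
      have h8 := hpowsmul (h * h) s' u0 h7 j
      have h9 : (h * h) ^ j = h := by
        conv_rhs => rw [hj]
        rw [pow_mul, sq]
      rw [h9] at h8
      exact hu1not ⟨_, h8⟩
    · have h7 : e = e2 := sub_eq_zero.mp ((mul_eq_zero.mp h5).resolve_left hs'0)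
      have h8 : e1 = e2 := sub_eq_zero.mp ((mul_eq_zero.mp h6).resolve_left hs10)
      rw [h8, ← h7, hu1] at he1
      obtain ⟨c, hc⟩ := heig x1 y1 he1
      exact hu1not ⟨c, by rw [hu1, hc]⟩
  -- conclusion
  obtain ⟨c1, hc1⟩ := hfix t
  obtain ⟨c2, hc2⟩ := hfix s
  rw [hu0def, map_add, rho_smul, rho_smul, ht1, ht2] at hc1
  rw [hu0def, map_add, rho_smul, rho_smul, hs1, hs2] at hc2
  have g1 := heq (show (s0 + t0 * b) • v + t0 • w = (c1 * s0) • v + (c1 * t0) • w by
    have : s0 • v + t0 • (w + b • v) = (s0 + t0 * b) • v + t0 • w := by module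
    rw [← this, hc1]; module)
  have g2 := heq (show s0 • v + (t0 + s0 * m) • w = (c2 * s0) • v + (c2 * t0) • w by
    have : s0 • (v + m • w) + t0 • w = s0 • v + (t0 + s0 * m) • w := by module
    rw [← this, hc2]; module)
  by_cases ht0 : t0 = 0
  · have hs0 : s0 ≠ 0 := by
      rcases hu0ne with h | h
      · exact h
      · exact absurd ht0 h
    rw [ht0, mul_zero, zero_add] at g2
    exact (mul_ne_zero hs0 hm) g2.2
  · have : c1 = 1 := by
      have := g1.2
      exact (mul_right_cancel₀ ht0 (by rw [one_mul]; exact this)).symm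
    rw [this, one_mul] at g1
    have : t0 * b = 0 := by linear_combination g1.1
    exact (mul_ne_zero ht0 hb) this

end Cfsg.Agent.H891.QO
end

-- part: H891/QuadInv
section
/-!
# The involution of a pair of square-zero elements

`A` a finite-dimensional algebra over a field `F` of odd characteristic, `N² = K² = 0`, `N K` not nilpotent, `S` a set of units of
the form `1 + λ N`, `1 + μ K` containing one of each kind with non-zero coefficient, `G = ⟨S⟩` finite.  Then (with the odd order
theorem) `|G|` is even, and every involution of `G` is `1 + Θ s(Θ)`, `Θ = N K + K N`.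
-/

set_option autoImplicit false
set_option linter.unusedSectionVars false

open Polynomial TensorProduct

namespace Cfsg.Agent.H891.QP

universe u v

/-- The odd order theorem in universe `u`, as a hypothesis (`Cfsg.Agent.S0205.result`). -/
def OddOrder : Prop := ∀ (X : Type v) [Group X] [Finite X], Odd (Nat.card X) → Group.IsSolvable X

variable {F : Type u} {A : Type v} [Field F] [Ring A] [Algebra F A]

theorem exists_eig [FiniteDimensional F A] {x : A} (hx : ¬ IsNilpotent x) :
    ∃ (c : AlgebraicClosure F) (v : AlgebraicClosure F ⊗[F] A), c ≠ 0 ∧ v ≠ 0 ∧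
      (Algebra.TensorProduct.includeRight : A →ₐ[F] AlgebraicClosure F ⊗[F] A) x * v = c • v := by
  classical
  set i := (Algebra.TensorProduct.includeRight : A →ₐ[F] AlgebraicClosure F ⊗[F] A) with hi
  have hinj : Function.Injective i :=
    Algebra.TensorProduct.includeRight_injective (algebraMap F (AlgebraicClosure F)).injective
  by_contra hcon
  push Not at hcon
  let L : Module.End (AlgebraicClosure F) (AlgebraicClosure F ⊗[F] A) := Algebra.lmul _ _ (i x)
  have hL : ∀ y, L y = i x * y := fun y => rfl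
  have hbot : ∀ c : AlgebraicClosure F, c ≠ 0 → L.maxGenEigenspace c = ⊥ := by
    intro c hc
    rw [eq_bot_iff]
    intro m hm
    rw [Module.End.mem_maxGenEigenspace] at hm
    obtain ⟨n, hn⟩ := hm
    let L' : Module.End (AlgebraicClosure F) (AlgebraicClosure F ⊗[F] A) := L - c • 1
    have hinj2 : ∀ y, L' y = 0 → y = 0 := by
      intro y hy
      by_contra hy0
      apply hcon c y hc hy0
      have : L y - c • y = 0 := hy
      rw [sub_eq_zero] at this
      exact this
    have : ∀ n : ℕ, ∀ y, (L' ^ n) y = 0 → y = 0 := by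
      intro n
      induction n with
      | zero => intro y hy; simpa using hy
      | succ n ih =>
        intro y hy
        rw [pow_succ'] at hy
        exact ih y (hinj2 _ hy)
    exact (Submodule.mem_bot _).mpr (this n m hn)
  have htop : L.maxGenEigenspace 0 = ⊤ := by
    rw [← Module.End.iSup_maxGenEigenspace_eq_top L]
    apply le_antisymm
    · exact le_iSup (fun μ => L.maxGenEigenspace μ) 0
    · apply iSup_le
      intro μ
      by_cases hμ : μ = 0
      · rw [hμ]
      · rw [hbot μ hμ]; exact bot_le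
  have h1 : (1 : AlgebraicClosure F ⊗[F] A) ∈ L.maxGenEigenspace 0 := by rw [htop]; trivial
  rw [Module.End.mem_maxGenEigenspace] at h1
  obtain ⟨n, hn⟩ := h1
  rw [zero_smul, sub_zero] at hn
  apply hx
  refine ⟨n, hinj ?_⟩
  have : ∀ n : ℕ, ∀ y, (L ^ n) y = (i x) ^ n * y := by
    intro n
    induction n with
    | zero => intro y; simp
    | succ n ih =>
      intro y
      rw [pow_succ', pow_succ', mul_assoc, ← ih]; rfl
  rw [this, mul_one] at hn
  rw [map_pow, hn, map_zero]

section
variable {N K : A}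

/-- action of the normal form on the plane of an eigenvector -/
theorem plane [FiniteDimensional F A] (hN : N * N = 0) (hK : K * K = 0) {c : AlgebraicClosure F}
    {v : AlgebraicClosure F ⊗[F] A} (hc : c ≠ 0)
    (hv : (Algebra.TensorProduct.includeRight : A →ₐ[F] AlgebraicClosure F ⊗[F] A) (N * K) * v = c • v) (a b c' d : F[X]) :
    (Algebra.TensorProduct.includeRight : A →ₐ[F] AlgebraicClosure F ⊗[F] A) (nf N K a b c' d) * v =
      (aeval c a + aeval c d * c) • v + (aeval c c') •
        ((Algebra.TensorProduct.includeRight : A →ₐ[F] AlgebraicClosure F ⊗[F] A) K * v) ∧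
    (Algebra.TensorProduct.includeRight : A →ₐ[F] AlgebraicClosure F ⊗[F] A) (nf N K a b c' d) *
        ((Algebra.TensorProduct.includeRight : A →ₐ[F] AlgebraicClosure F ⊗[F] A) K * v) =
      (aeval c b * c) • v + (aeval c a) •
        ((Algebra.TensorProduct.includeRight : A →ₐ[F] AlgebraicClosure F ⊗[F] A) K * v) := by
  set i := (Algebra.TensorProduct.includeRight : A →ₐ[F] AlgebraicClosure F ⊗[F] A) with hi
  set w := i K * v with hw
  have hNw : i N * w = c • v := by rw [hw, ← mul_assoc, ← map_mul, hv]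
  have hNv : i N * v = 0 := by
    have : c • (i N * v) = 0 := by
      rw [← mul_smul_comm, ← hNw, ← mul_assoc, ← map_mul, hN, map_zero, zero_mul]
    exact (smul_eq_zero.mp this).resolve_left hc
  have hKw : i K * w = 0 := by rw [hw, ← mul_assoc, ← map_mul, hK, map_zero, zero_mul]
  have hthv : i (th N K) * v = c • v := by
    unfold th
    rw [map_add, add_mul, hv, map_mul i K N, mul_assoc, hNv, mul_zero, add_zero]
  have hthw : i (th N K) * w = c • w := by
    unfold th
    rw [map_add, add_mul, map_mul i N K, mul_assoc, hKw, mul_zero, zero_add, map_mul, mul_assoc, hNw, mul_smul_comm]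
  have hph : ∀ (y : AlgebraicClosure F ⊗[F] A), i (th N K) * y = c • y → ∀ p : F[X], i (ph N K p) * y = (aeval c p) • y := by
    intro y hy p
    have hpow : ∀ n : ℕ, (i (th N K)) ^ n * y = c ^ n • y := by
      intro n
      induction n with
      | zero => simp
      | succ n ih => rw [pow_succ, mul_assoc, hy, mul_smul_comm, ih, smul_smul, pow_succ]; congr 1; ring
    induction p using Polynomial.induction_on' with
    | add p q hp hq => rw [ph_add, map_add, add_mul, hp, hq, map_add, add_smul]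
    | monomial n r =>
      unfold ph
      rw [aeval_monomial, map_mul, map_pow, AlgHom.commutes, mul_assoc, hpow, aeval_monomial,
        ← Algebra.smul_def, ← Algebra.smul_def, smul_assoc]
  constructor
  · unfold nf
    rw [map_add, map_add, map_add, map_mul, map_mul, map_mul i (ph N K d), add_mul, add_mul, add_mul, mul_assoc, mul_assoc,
      mul_assoc, hNv, hv, ← hw, hph v hthv, hph w hthw, mul_smul_comm, hph v hthv]
    rw [mul_zero, smul_smul]
    module
  · unfold nf
    rw [map_add, map_add, map_add, map_mul, map_mul, map_mul i (ph N K d), add_mul, add_mul, add_mul, mul_assoc, mul_assoc,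
      mul_assoc, map_mul i N K, mul_assoc (i N), hKw, hNw, hph w hthw, mul_smul_comm, hph v hthv]
    rw [mul_zero, mul_zero, mul_zero, smul_smul]
    module

/-- The representation of `⟨S⟩` on `k ⊗ A` by left multiplication. -/
noncomputable def rep (F : Type u) {A : Type v} [Field F] [Ring A] [Algebra F A] (S : Set Aˣ) :
    Subgroup.closure S →* Module.End (AlgebraicClosure F) (AlgebraicClosure F ⊗[F] A) :=
  (((Algebra.lmul (AlgebraicClosure F) (AlgebraicClosure F ⊗[F] A)).toRingHom.toMonoidHom).comp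
    ((Algebra.TensorProduct.includeRight : A →ₐ[F] AlgebraicClosure F ⊗[F] A).toRingHom.toMonoidHom)).comp
    ((Units.coeHom A).comp (Subgroup.subtype _))

theorem rep_apply (S : Set Aˣ) (g : Subgroup.closure S) (y : AlgebraicClosure F ⊗[F] A) :
    rep F S g y = (Algebra.TensorProduct.includeRight : A →ₐ[F] AlgebraicClosure F ⊗[F] A) ((g : Aˣ) : A) * y := rfl

/-- `|⟨S⟩|` is even. -/
theorem even_card [FiniteDimensional F A] (hFT : OddOrder.{v}) (hN : N * N = 0) (hK : K * K = 0)
    (hnil : ¬ IsNilpotent (N * K)) {S : Set Aˣ} (hS : ∀ u ∈ S, IsGen F N K u) [Finite (Subgroup.closure S)]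
    {t s : Aˣ} (ht : t ∈ S) (hs : s ∈ S) {l m : F} (hl : l ≠ 0) (hm : m ≠ 0) (ht' : (t : A) = 1 + l • N)
    (hs' : (s : A) = 1 + m • K) : Even (Nat.card (Subgroup.closure S)) := by
  by_contra hodd
  rw [Nat.not_even_iff_odd] at hodd
  have hsol := hFT _ hodd
  obtain ⟨c, v, hc, hv0, hv⟩ := exists_eig (F := F) hnil
  set i := (Algebra.TensorProduct.includeRight : A →ₐ[F] AlgebraicClosure F ⊗[F] A) with hi
  set w := i K * v with hw
  have hNw : i N * w = c • v := by rw [hw, ← mul_assoc, ← map_mul, hv]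
  have hNv : i N * v = 0 := by
    have : c • (i N * v) = 0 := by
      rw [← mul_smul_comm, ← hNw, ← mul_assoc, ← map_mul, hN, map_zero, zero_mul]
    exact (smul_eq_zero.mp this).resolve_left hc
  have hKw : i K * w = 0 := by rw [hw, ← mul_assoc, ← map_mul, hK, map_zero, zero_mul]
  have hind : ∀ a b : AlgebraicClosure F, a • v + b • w = 0 → a = 0 ∧ b = 0 := by
    intro a b h
    have h1 : i N * (a • v + b • w) = 0 := by rw [h, mul_zero]
    rw [mul_add, mul_smul_comm, mul_smul_comm, hNv, hNw, smul_zero, zero_add, smul_smul] at h1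
    have hb : b = 0 := by
      rcases smul_eq_zero.mp h1 with h2 | h2
      · exact (mul_eq_zero.mp h2).resolve_right hc
      · exact absurd h2 hv0
    rw [hb, zero_smul, add_zero] at h
    exact ⟨(smul_eq_zero.mp h).resolve_right hv0, hb⟩
  refine QO.false_of hsol hodd (rep F S) (v := v) (w := w) hind ?_
    (t := ⟨t, Subgroup.subset_closure ht⟩) (s := ⟨s, Subgroup.subset_closure hs⟩)
    (b := algebraMap F _ l * c) (m := algebraMap F _ m)
    (mul_ne_zero (by simpa using hl) hc) (by simpa using hm) ?_ ?_ ?_ ?_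
  · rintro ⟨g, hg⟩
    obtain ⟨r, b, c', d, e1, e2⟩ := hasNF_of_mem (F := F) hN hK hS hg
    obtain ⟨f1, f2⟩ := plane hN hK hc hv (1 + X * r) b c' d
    obtain ⟨f3, f4⟩ := plane hN hK hc hv (1 + X * r + d * X) (-b) (-c') (-d)
    rw [← hi, ← hw] at f1 f2 f3 f4
    rw [← e1] at f1 f2
    rw [← e2] at f3 f4
    refine ⟨_, _, _, _, f1, f2, ?_⟩
    have h1 : i (g : A) * (i ((g⁻¹ : Aˣ) : A) * v) = v := by
      rw [← mul_assoc, ← map_mul, Units.mul_inv, map_one, one_mul]
    rw [f3, mul_add, mul_smul_comm, mul_smul_comm, f1, f2] at h1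
    simp only [map_add, map_mul, map_one, map_neg, aeval_X] at h1 ⊢
    set R := aeval c r
    set D := aeval c d
    set B := aeval c b
    set C' := aeval c c'
    have h2 : ((1 + c * R + D * c - D * c) * (1 + c * R + D * c) - C' * (B * c) - 1) • v +
        ((1 + c * R + D * c - D * c) * C' - C' * (1 + c * R)) • w = 0 := by
      rw [← sub_eq_zero] at h1
      rw [← h1]
      module
    have h3 := (hind _ _ h2).1
    linear_combination h3
  · rw [rep_apply]
    show i (t : A) * v = v
    rw [ht', map_add, map_one, map_smul, add_mul, one_mul, smul_mul_assoc, hNv, smul_zero, add_zero]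
  · rw [rep_apply]
    show i (t : A) * w = _
    rw [ht', map_add, map_one, map_smul, add_mul, one_mul, smul_mul_assoc, hNw, mul_smul, algebraMap_smul]
  · rw [rep_apply]
    show i (s : A) * w = w
    rw [hs', map_add, map_one, map_smul, add_mul, one_mul, smul_mul_assoc, hKw, smul_zero, add_zero]
  · rw [rep_apply]
    show i (s : A) * v = _
    rw [hs', map_add, map_one, map_smul, add_mul, one_mul, smul_mul_assoc, ← hw, algebraMap_smul]

/-- **The involution of a pair.** -/
theorem exists_invol [FiniteDimensional F A] (hFT : OddOrder.{v}) (h2 : (2 : F) ≠ 0) (hN : N * N = 0) (hK : K * K = 0)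
    (hnil : ¬ IsNilpotent (N * K)) {S : Set Aˣ} (hS : ∀ u ∈ S, IsGen F N K u) [Finite (Subgroup.closure S)]
    {t s : Aˣ} (ht : t ∈ S) (hs : s ∈ S) {l m : F} (hl : l ≠ 0) (hm : m ≠ 0) (ht' : (t : A) = 1 + l • N)
    (hs' : (s : A) = 1 + m • K) :
    ∃ z ∈ Subgroup.closure S, z * z = 1 ∧ z ≠ 1 ∧ Commute (z : A) N ∧ Commute (z : A) K ∧
      ∃ σ : A, Commute σ N ∧ Commute σ K ∧ (z : A) = 1 + N * K * σ + K * N * σ := by
  have hev := even_card hFT hN hK hnil hS ht hs hl hm ht' hs'
  obtain ⟨z, hz⟩ := exists_prime_orderOf_dvd_card' (G := Subgroup.closure S) 2 (even_iff_two_dvd.mp hev)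
  have hzz : (z : Aˣ) * z = 1 := by
    have h1 : z * z = 1 := by rw [← sq, ← hz, pow_orderOf_eq_one]
    exact congrArg Subtype.val h1
  have hz1 : (z : Aˣ) ≠ 1 := by
    intro h
    have : z = 1 := Subtype.ext h
    rw [this, orderOf_one] at hz
    norm_num at hz
  obtain ⟨s', hs''⟩ := (hasNF_of_mem (F := F) hN hK hS z.2).invol h2 hzz
  have c1 : Commute (ph N K s') N := (N_ph hN s').symm
  have c2 : Commute (ph N K s') K := (K_ph hK s').symm
  refine ⟨z, z.2, hzz, hz1, ?_, ?_, ph N K s', c1, c2, ?_⟩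
  · rw [hs'']; exact (N_ph hN _).symm
  · rw [hs'']; exact (K_ph hK _).symm
  · rw [hs'', ph_add, ph_one, ph_mul, ph_X]
    unfold th
    noncomm_ring

end
end Cfsg.Agent.H891.QP
end

-- part: H891/QuadTI
section
/-!
# TI elements that are square-zero: a common involution of `H` and `H^g`

`H ≤ M ≤ Aˣ` finite, `A` a finite-dimensional algebra over a field of odd characteristic `p`; `N, N' ∈ A` of square zero with
`1 + l N, 1 + l N' ∈ H`, `1 + N` and `1 + N'` TI (`g t g⁻¹ ∈ H → g ∈ H` for `g ∈ M`) and `C_M(N), C_M(N') ≤ H`.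
Then for every `g ∈ M ∖ H` there is an involution `z ∈ H ∩ g H g⁻¹` commuting with `N` and `K = g N' g⁻¹`, of the form
`z = 1 + N K σ + K N σ` with `σ` commuting with `N` and `K`.
-/

set_option autoImplicit false

namespace Cfsg.Agent.H891.QP

universe u v

/-- A `p`-subgroup of `M` containing a TI element lies in `H`. -/
theorem pgroup_le {G : Type*} [Group G] {p : ℕ} (hp : p.Prime) (M H : Subgroup G) [Finite M]
    (D : Set G) (hD : ∀ s ∈ D, s ∈ H ∧ ∃ k : ℕ, s ^ p ^ k = 1) (hDM : ∀ s ∈ D, s ∈ M)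
    (hTI : ∀ s ∈ D, ∀ g ∈ M, g * s * g⁻¹ ∈ H → g ∈ H) {s : G} (hs : s ∈ D) (L : Subgroup G) (hLM : L ≤ M)
    (hL : IsPGroup p L) (hsL : s ∈ L) : L ≤ H := by
  have : Fact p.Prime := ⟨hp⟩
  intro x hx
  have h := H880.pgroup_fixes (M := M) (p := p) (H.subgroupOf M) {s : M | (s : G) ∈ D}
    (by
      rintro s hs
      obtain ⟨h1, k, h2⟩ := hD s hs
      exact ⟨h1, k, Subtype.ext (by simpa using h2)⟩)
    (by
      rintro s hs g hg
      exact hTI s hs g g.2 hg)
    (s := ⟨s, hDM s hs⟩) hs 1 (L.subgroupOf M) (hL.comap_of_injective M.subtype (Subtype.val_injective))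
    (by simpa [Subgroup.mem_subgroupOf] using hsL) ⟨x, hLM hx⟩ hx
  have h2 : ((⟨x, hLM hx⟩ * 1 : M) : M ⧸ H.subgroupOf M) = ((1 : M) : M ⧸ H.subgroupOf M) := h
  rw [eq_comm, QuotientGroup.eq] at h2
  simpa [Subgroup.mem_subgroupOf] using h2

variable {F : Type u} {A : Type v} [Field F] [Ring A] [Algebra F A]

/-- The unit `1 + x` for `x² = 0`. -/
def uni (x : A) (h : x * x = 0) : Aˣ where
  val := 1 + x
  inv := 1 - x
  val_inv := by have : (1 + x) * (1 - x) = 1 - x * x := by noncomm_ring
                rw [this, h, sub_zero]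
  inv_val := by have : (1 - x) * (1 + x) = 1 - x * x := by noncomm_ring
                rw [this, h, sub_zero]

theorem uni_val (x : A) (h : x * x = 0) : ((uni x h : Aˣ) : A) = 1 + x := rfl

theorem sq_smul {N : A} (hN : N * N = 0) (l : F) : (l • N) * (l • N) = 0 := by
  rw [smul_mul_smul_comm, hN, smul_zero]

theorem sq_conj {N : A} (hN : N * N = 0) (g : Aˣ) :
    ((g : A) * N * ((g⁻¹ : Aˣ) : A)) * ((g : A) * N * ((g⁻¹ : Aˣ) : A)) = 0 := by
  have : ((g : A) * N * ((g⁻¹ : Aˣ) : A)) * ((g : A) * N * ((g⁻¹ : Aˣ) : A)) =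
      (g : A) * (N * ((((g⁻¹ : Aˣ) : A) * (g : A)) * N)) * ((g⁻¹ : Aˣ) : A) := by noncomm_ring
  rw [this, Units.inv_mul, one_mul, hN]; simp

/-- **Involution lemma for TI square-zero elements.** -/
theorem pair_invol [FiniteDimensional F A] (hFT : OddOrder.{v}) {p : ℕ} (hp : p.Prime) [CharP A p] (h2 : (2 : F) ≠ 0)
    (M H : Subgroup Aˣ) [Finite M] (hHM : H ≤ M) {N N' : A} (hN : N * N = 0) (hN' : N' * N' = 0)
    (hNH : ∀ l : F, uni (l • N) (sq_smul hN l) ∈ H) (hNH' : ∀ l : F, uni (l • N') (sq_smul hN' l) ∈ H)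
    (hTI : ∀ g ∈ M, g * uni N hN * g⁻¹ ∈ H → g ∈ H) (hTI' : ∀ g ∈ M, g * uni N' hN' * g⁻¹ ∈ H → g ∈ H)
    (hC : ∀ g ∈ M, Commute (g : A) N → g ∈ H) (hC' : ∀ g ∈ M, Commute (g : A) N' → g ∈ H)
    {g : Aˣ} (hg : g ∈ M) (hgH : g ∉ H) {K : A} (hKdef : K = (g : A) * N' * ((g⁻¹ : Aˣ) : A)) :
    ∃ z : Aˣ, z ∈ H ∧ g⁻¹ * z * g ∈ H ∧ z * z = 1 ∧ z ≠ 1 ∧ Commute (z : A) N ∧ Commute (z : A) K ∧
      ∃ σ : A, Commute σ N ∧ Commute σ K ∧ (z : A) = 1 + N * K * σ + K * N * σ := by
  have : Fact p.Prime := ⟨hp⟩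
  have hK : K * K = 0 := by rw [hKdef]; exact sq_conj hN' g
  have hconj : ∀ l : F, ((g * uni (l • N') (sq_smul hN' l) * g⁻¹ : Aˣ) : A) = 1 + l • K := by
    intro l
    rw [Units.val_mul, Units.val_mul, uni_val, hKdef]
    rw [mul_add, add_mul, mul_one, Units.mul_inv, mul_smul_comm, smul_mul_assoc]
  let S : Set Aˣ := {u | (∃ l : F, (u : A) = 1 + l • N) ∨ ∃ m : F, (u : A) = 1 + m • K}
  have hS : ∀ u ∈ S, IsGen F N K u := fun u hu => hu
  have hcl : Subgroup.closure S ≤ M := by
    rw [Subgroup.closure_le]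
    rintro u (⟨l, hu⟩ | ⟨l, hu⟩)
    · have : u = uni (l • N) (sq_smul hN l) := Units.ext hu
      rw [this]; exact hHM (hNH l)
    · have : u = g * uni (l • N') (sq_smul hN' l) * g⁻¹ := Units.ext (by rw [hconj, hu])
      rw [this]
      exact M.mul_mem (M.mul_mem hg (hHM (hNH' l))) (M.inv_mem hg)
  have hfin : Finite (Subgroup.closure S) :=
    Finite.of_injective (Subgroup.inclusion hcl) (Subgroup.inclusion_injective hcl)
  have h1N : (1 : F) • N = N := one_smul _ _
  have h1N' : (1 : F) • N' = N' := one_smul _ _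
  have huN : uni N hN ∈ H := by
    have := hNH 1
    rwa [show uni ((1 : F) • N) (sq_smul hN 1) = uni N hN from Units.ext (by rw [uni_val, uni_val, h1N])] at this
  have huN' : uni N' hN' ∈ H := by
    have := hNH' 1
    rwa [show uni ((1 : F) • N') (sq_smul hN' 1) = uni N' hN' from Units.ext (by rw [uni_val, uni_val, h1N'])] at this
  have huS : uni N hN ∈ S := Or.inl ⟨1, by rw [uni_val, h1N]⟩
  have huS' : g * uni N' hN' * g⁻¹ ∈ S := Or.inr ⟨1, by
    have := hconj 1
    rwa [show uni ((1 : F) • N') (sq_smul hN' 1) = uni N' hN' from Units.ext (by rw [uni_val, uni_val, h1N'])] at this⟩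
  have hpow : (uni N hN) ^ p ^ 1 = 1 := by
    apply Units.ext
    rw [Units.val_pow_eq_pow_val, uni_val, add_pow_char_pow_of_commute _ _ (Commute.one_left _), one_pow, pow_one]
    have : N ^ p = 0 := by
      obtain ⟨k, hk⟩ := Nat.exists_eq_add_of_le hp.two_le
      rw [hk, pow_add, sq, hN, zero_mul]
    rw [this]; simp
  have hnil : ¬ IsNilpotent (N * K) := by
    intro hnil
    have hPG := isPGroup_closure (F := F) p hN hK hnil hS
    have hle := pgroup_le hp M H {uni N hN} (by rintro s rfl; exact ⟨huN, 1, hpow⟩)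
      (by rintro s rfl; exact hHM huN) (by rintro s rfl g' hg' h'; exact hTI g' hg' h')
      (s := uni N hN) rfl (Subgroup.closure S) hcl hPG (Subgroup.subset_closure huS)
    exact hgH (hTI' g hg (hle (Subgroup.subset_closure huS')))
  obtain ⟨z, hz, hzz, hz1, c1, c2, σ, s1, s2, hσ⟩ := exists_invol hFT h2 hN hK hnil hS huS huS'
    (l := (1 : F)) (m := (1 : F)) one_ne_zero one_ne_zero (by rw [uni_val, h1N])
    (by
      have := hconj 1
      rwa [show uni ((1 : F) • N') (sq_smul hN' 1) = uni N' hN' from Units.ext (by rw [uni_val, uni_val, h1N'])] at this)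
  refine ⟨z, hC z (hcl hz) c1, ?_, hzz, hz1, c1, c2, σ, s1, s2, hσ⟩
  apply hC' _ (M.mul_mem (M.mul_mem (M.inv_mem hg) (hcl hz)) hg)
  show _ * _ = _ * _
  have h3 : (z : A) * K = K * (z : A) := c2
  rw [hKdef] at h3
  have h4 : ((g⁻¹ : Aˣ) : A) * ((z : A) * ((g : A) * N' * ((g⁻¹ : Aˣ) : A))) * (g : A) =
      ((g⁻¹ : Aˣ) : A) * (((g : A) * N' * ((g⁻¹ : Aˣ) : A)) * (z : A)) * (g : A) := by rw [h3]
  simp only [Units.val_mul]
  calc ((g⁻¹ : Aˣ) : A) * (z : A) * (g : A) * N' = ((g⁻¹ : Aˣ) : A) * ((z : A) * ((g : A) * N' * ((g⁻¹ : Aˣ) : A))) * (g : A) := by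
        simp only [mul_assoc, Units.inv_mul, mul_one]
    _ = _ := h4
    _ = N' * (((g⁻¹ : Aˣ) : A) * (z : A) * (g : A)) := by
        simp only [mul_assoc]
        rw [← mul_assoc ((g⁻¹ : Aˣ) : A) (g : A), Units.inv_mul, one_mul]

end Cfsg.Agent.H891.QP
end

-- part: H882/Ten/Pair
section
/-!
# An involution commuting with two square-zero TI elements

Combination of `H879.exists_involution` (existence, via quadratic pairs) and `H891.QP.HasNF.invol` (shape).
-/

set_option autoImplicit false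

namespace Cfsg.Agent.H882.Pair

open Cfsg.Agent.H891.QP

variable {F : Type*} {V : Type*} [Field F] [Finite F] [AddCommGroup V] [Module F V] [FiniteDimensional F V]

/-- `s, t ∈ X` with `(s - 1)^2 = (t - 1)^2 = 0`, `⟨t, s⟩` not a `p`-group: an involution `z ∈ X` commuting with
`t` and `s`, which acts trivially on `ker (t - 1) / im (t - 1)` and on `ker (s - 1) / im (s - 1)`. -/
theorem exists_z {p : ℕ} [hp : Fact p.Prime] [CharP F p] (h2 : (2 : F) ≠ 0) (X : Subgroup (V ≃ₗ[F] V)) {t s : V ≃ₗ[F] V}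
    (ht : t ∈ X) (hs : s ∈ X)
    (ht2 : ∀ v, t (t v - v) = t v - v) (hs2 : ∀ v, s (s v - v) = s v - v)
    (hnp : ¬ IsPGroup p (Subgroup.closure ({t, s} : Set (V ≃ₗ[F] V)))) :
    ∃ z ∈ X, z * z = 1 ∧ z ≠ 1 ∧ z * t = t * z ∧ z * s = s * z ∧
      (∀ v, t v = v → ∃ v', z v - v = t v' - v') ∧ (∀ v, s v = v → ∃ v', z v - v = s v' - v') := by
  classical
  have : Finite V := Module.finite_of_finite F
  have : Finite (V ≃ₗ[F] V) := Finite.of_injective (fun g : V ≃ₗ[F] V => (g : V → V)) DFunLike.coe_injective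
  have hp2 : p ≠ 2 := by
    rintro rfl
    apply h2
    have := CharP.cast_eq_zero F 2
    exact_mod_cast this
  -- the representation
  let ρ : (V ≃ₗ[F] V) →* Module.End F V :=
    { toFun := fun g => g.toLinearMap
      map_one' := rfl
      map_mul' := fun _ _ => rfl }
  have hρ : Function.Injective ρ := fun a b hab => LinearEquiv.toLinearMap_injective hab
  set N : Module.End F V := ρ t - 1 with hN
  set K : Module.End F V := ρ s - 1 with hK
  have hNN : N * N = 0 := by
    ext v
    show t (t v - v) - (t v - v) = 0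
    rw [ht2, sub_self]
  have hKK : K * K = 0 := by
    ext v
    show s (s v - v) - (s v - v) = 0
    rw [hs2, sub_self]
  obtain ⟨j, hj, hj1, hjj, hjt, hjs⟩ := Cfsg.Agent.H879.QuadPair.exists_involution hp2 ρ hρ (t := t) (s := s)
    (by rw [pow_two]; exact hNN) (by rw [pow_two]; exact hKK) hnp
  -- units
  let R : (V ≃ₗ[F] V) ≃* (Module.End F V)ˣ := (LinearMap.GeneralLinearGroup.generalLinearEquiv F V).symm
  have hR : ∀ g : V ≃ₗ[F] V, ((R g : (Module.End F V)ˣ) : Module.End F V) = g.toLinearMap := fun g => rfl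
  have hS : ∀ u ∈ (R '' ({t, s} : Set (V ≃ₗ[F] V))), IsGen F N K u := by
    rintro _ ⟨g, hg, rfl⟩
    rcases hg with rfl | hg
    · left
      refine ⟨1, ?_⟩
      rw [hR, one_smul, hN]
      show g.toLinearMap = 1 + (g.toLinearMap - 1)
      abel
    · rw [Set.mem_singleton_iff] at hg
      subst hg
      right
      refine ⟨1, ?_⟩
      rw [hR, one_smul, hK]
      show g.toLinearMap = 1 + (g.toLinearMap - 1)
      abel
  have hjR : R j ∈ Subgroup.closure (R '' ({t, s} : Set (V ≃ₗ[F] V))) := by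
    have h1 : (Subgroup.closure ({t, s} : Set (V ≃ₗ[F] V))).map R.toMonoidHom =
        Subgroup.closure (R '' ({t, s} : Set (V ≃ₗ[F] V))) := by
      rw [MonoidHom.map_closure]; rfl
    rw [← h1]
    exact ⟨j, hj, rfl⟩
  obtain ⟨q, hq⟩ := (hasNF_of_mem (F := F) hNN hKK hS hjR).invol h2 (by rw [← map_mul, hjj, map_one])
  have c1 : Commute (ph N K q) N := (N_ph hNN q).symm
  have c2 : Commute (ph N K q) K := (K_ph hKK q).symm
  have hform : j.toLinearMap = 1 + N * K * ph N K q + K * N * ph N K q := by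
    rw [← hR, hq, ph_add, ph_one, ph_mul, ph_X]
    unfold th
    noncomm_ring
  have hjX : j ∈ X := by
    have : Subgroup.closure ({t, s} : Set (V ≃ₗ[F] V)) ≤ X := by
      rw [Subgroup.closure_le]
      rintro x hx
      rcases hx with rfl | hx
      · exact ht
      · rw [Set.mem_singleton_iff] at hx; subst hx; exact hs
    exact this hj
  refine ⟨j, hjX, hjj, hj1, hjt, hjs, ?_, ?_⟩
  · intro v hv
    have hNv : N v = 0 := by show t v - v = 0; rw [hv, sub_self]
    refine ⟨K (ph N K q v), ?_⟩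
    have h3 := LinearMap.congr_fun hform v
    have h4 : N (ph N K q v) = 0 := by
      have := LinearMap.congr_fun c1.eq v
      have h5 : ph N K q (N v) = N (ph N K q v) := this
      rw [← h5, hNv, map_zero]
    have h6 : j v = v + N (K (ph N K q v)) + K (N (ph N K q v)) := h3
    rw [h4, map_zero, add_zero] at h6
    rw [h6, add_sub_cancel_left]
    rfl
  · intro v hv
    have hKv : K v = 0 := by show s v - v = 0; rw [hv, sub_self]
    refine ⟨N (ph N K q v), ?_⟩
    have h3 := LinearMap.congr_fun hform v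
    have h4 : K (ph N K q v) = 0 := by
      have := LinearMap.congr_fun c2.eq v
      have h5 : ph N K q (K v) = K (ph N K q v) := this
      rw [← h5, hKv, map_zero]
    have h6 : j v = v + N (K (ph N K q v)) + K (N (ph N K q v)) := h3
    rw [h4, map_zero, add_zero] at h6
    rw [h6, add_sub_cancel_left]
    rfl

end Cfsg.Agent.H882.Pair
end

-- part: H882/Ten/Main
section
/-!
# Orthogonal tensor products: every overgroup of the tensor group in `E Q` is `E Q` or in the tensor group
-/

set_option autoImplicit false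
set_option linter.unusedSimpArgs false
set_option linter.unusedSectionVars false

namespace Cfsg.Agent.H882.Ten

open QuadraticMap hiding proj
open Cfsg.Agent.LieClassical.OrthCore Cfsg.Agent.LieClassical.OrthTrans Cfsg.Agent.H883.Root

section general

variable {F : Type*} {V : Type*} [Field F] [AddCommGroup V] [Module F V]

theorem pow_char_of_sq {p : ℕ} [CharP F p] {t : V ≃ₗ[F] V} (ht2 : ∀ v, t (t v - v) = t v - v) : t ^ p = 1 := by
  have key : ∀ (n : ℕ) (v : V), (t ^ n) v = v + (n : F) • (t v - v) := by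
    intro n
    induction n with
    | zero => intro v; simp
    | succ n ih =>
      intro v
      have h1 : (t ^ (n + 1)) v = t ((t ^ n) v) := by rw [pow_succ']; rfl
      rw [h1, ih, map_add, map_smul, ht2]
      push_cast
      module
  ext v
  rw [key, CharP.cast_eq_zero]
  simp

theorem exists_mem_span_pair {Q : QuadraticForm F V} [FiniteDimensional F V] {M : Submodule F V}
    (hM : 3 ≤ Module.finrank F M) (w x : V) : ∃ s ∈ M, s ≠ 0 ∧ polar Q w s = 0 ∧ polar Q x s = 0 := by
  let f : M →ₗ[F] F × F := ((polarBilin Q w).prod (polarBilin Q x)) ∘ₗ M.subtype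
  have hker : LinearMap.ker f ≠ ⊥ := by
    apply LinearMap.ker_ne_bot_of_finrank_lt
    rw [Module.finrank_prod, Module.finrank_self]
    omega
  obtain ⟨s, hs, hs0⟩ := Submodule.exists_mem_ne_zero_of_ne_bot hker
  have h1 := LinearMap.mem_ker.1 hs
  refine ⟨s, s.2, fun h => hs0 (Subtype.ext h), congrArg Prod.fst h1, congrArg Prod.snd h1⟩

/-- **A subspace meeting every `L^⊥` inside `L`** (`L` a totally singular line) has dimension at most two. -/
theorem false_of_lines {Q : QuadraticForm F V} [FiniteDimensional F V] (hG : Good Q) {M : Submodule F V}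
    (hM : 3 ≤ Module.finrank F M)
    (h : ∀ w x : V, Q w = 0 → Q x = 0 → polar Q w x = 0 → w ≠ 0 → (∀ c : F, x ≠ c • w) →
      ∀ s ∈ M, polar Q w s = 0 → polar Q x s = 0 → ∃ α β : F, s = α • w + β • x) : False := by
  have hnd := hG.nondeg
  -- data attached to a singular vector
  have data : ∀ q, Q q = 0 → q ≠ 0 → ∃ q' z z' y, Hyp Q q q' ∧ Hyp Q z z' ∧ polar Q q z = 0 ∧ polar Q q z' = 0 ∧
      polar Q q' z = 0 ∧ polar Q q' z' = 0 ∧ polar Q q y = 0 ∧ polar Q q' y = 0 ∧ polar Q z y = 0 ∧ Q y ≠ 0 := by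
    intro q hq hq0
    obtain ⟨q', hyp⟩ := LieClassical.OrthTrans.exists_hyp hnd hq hq0
    obtain ⟨z, z', hyp2, h1, h2, h3, h4⟩ := hG.exists_hyp2 hyp
    obtain ⟨a, c, ⟨a1, a2, a3, -⟩, ⟨c1, c2, c3, -⟩, hac⟩ := exists_perp4 hnd hG.dim hyp hyp2 h1 h2 h3 h4
    rcases exists_nonsing hac with h | h | h
    · exact ⟨q', z, z', a, hyp, hyp2, h1, h2, h3, h4, a1, a2, a3, h⟩
    · exact ⟨q', z, z', c, hyp, hyp2, h1, h2, h3, h4, c1, c2, c3, h⟩
    · exact ⟨q', z, z', a + c, hyp, hyp2, h1, h2, h3, h4, by rw [polar_add_right, a1, c1, add_zero],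
        by rw [polar_add_right, a2, c2, add_zero], by rw [polar_add_right, a3, c3, add_zero], h⟩
  have hindz : ∀ q q' z z', Hyp Q q q' → Hyp Q z z' → polar Q q' z = 0 → ∀ c : F, z ≠ c • q := by
    intro q q' z z' hyp hyp2 h3 c hc
    have h5 := h3
    rw [hc, polar_smul_right, hyp.pair'] at h5
    have hc0 : c = 0 := by simpa using h5
    exact hyp2.left_ne (by rw [hc, hc0, zero_smul])
  -- a singular vector outside `M`
  obtain ⟨q, hq, hqM⟩ : ∃ q, Q q = 0 ∧ q ∉ M := by
    by_contra hcon
    push Not at hcon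
    obtain ⟨x0, y0, h0⟩ := hG.exists_hyp
    have hall : ∀ v, v ∈ M := fun v => sing_induction h0 (P := fun v => v ∈ M) (fun a c ha hc => M.add_mem ha hc)
      hcon v
    obtain ⟨q', z, z', y, hyp, hyp2, h1, h2, h3, h4, h5, h6, h7, h8⟩ := data x0 h0.left h0.left_ne
    obtain ⟨α, β, hαβ⟩ := h x0 z h0.left hyp2.left h1 h0.left_ne (hindz _ _ _ _ hyp hyp2 h3) y (hall y) h5 h7
    apply h8
    rw [hαβ, Q_add, QuadraticMap.map_smul, QuadraticMap.map_smul, h0.left, hyp2.left, polar_smul_left,
      polar_smul_right, h1]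
    simp
  have hq0 : q ≠ 0 := by
    rintro rfl
    exact hqM M.zero_mem
  obtain ⟨q', z, z', y, hyp, hyp2, h1, h2, h3, h4, h5, h6, h7, h8⟩ := data q hq hq0
  have claim : ∀ v, polar Q q v = 0 → polar Q q' v = 0 → ∃ α : F, v + α • q ∈ M := by
    intro v
    refine sing_induction_perp hyp2 h1 h2 h3 h4 (P := fun v => ∃ α : F, v + α • q ∈ M) ?_ ?_ v
    · rintro a c _ _ _ _ ⟨α, hα⟩ ⟨β, hβ⟩
      refine ⟨α + β, ?_⟩
      have : a + c + (α + β) • q = (a + α • q) + (c + β • q) := by module
      rw [this]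
      exact M.add_mem hα hβ
    · intro a ha ha1 ha2
      by_cases ha0 : a = 0
      · exact ⟨0, by rw [ha0]; simp⟩
      have hind : ∀ c : F, a ≠ c • q := by
        intro c hc
        rw [hc, polar_smul_right, hyp.pair'] at ha2
        have hc0 : c = 0 := by simpa using ha2
        exact ha0 (by rw [hc, hc0, zero_smul])
      obtain ⟨s, hs, hs0, hs1, hs2⟩ := exists_mem_span_pair (Q := Q) hM q a
      obtain ⟨α, β, hαβ⟩ := h q a hq ha ha1 hq0 hind s hs hs1 hs2
      have hβ : β ≠ 0 := by
        rintro rfl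
        rw [zero_smul, add_zero] at hαβ
        have hα : α ≠ 0 := by
          rintro rfl
          exact hs0 (by rw [hαβ, zero_smul])
        apply hqM
        have : q = α⁻¹ • s := by rw [hαβ, smul_smul, inv_mul_cancel₀ hα, one_smul]
        rw [this]
        exact M.smul_mem _ hs
      refine ⟨β⁻¹ * α, ?_⟩
      have : a + (β⁻¹ * α) • q = β⁻¹ • s := by
        rw [hαβ, smul_add, smul_smul, smul_smul, inv_mul_cancel₀ hβ, one_smul, add_comm]
      rw [this]
      exact M.smul_mem _ hs
  obtain ⟨α, hα⟩ := claim y h5 h6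
  have hzq : polar Q z q = 0 := by rw [polar_comm]; exact h1
  obtain ⟨a, b, hab⟩ := h q z hq hyp2.left h1 hq0 (hindz _ _ _ _ hyp hyp2 h3) _ hα
    (by rw [polar_add_right, h5, polar_smul_right, polar_self_of_sing hq]; simp)
    (by rw [polar_add_right, h7, polar_smul_right, hzq]; simp)
  apply h8
  have e1 : Q (y + α • q) = Q y := by
    rw [Q_add, QuadraticMap.map_smul, hq, polar_smul_right, polar_comm Q y q, h5]; simp
  rw [← e1, hab, Q_add, QuadraticMap.map_smul, QuadraticMap.map_smul, hq, hyp2.left, polar_smul_left,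
    polar_smul_right, h1]
  simp

end general

variable {F : Type*} {U : Type*} {W : Type*} {V : Type*} [Field F] [AddCommGroup U] [Module F U]
  [AddCommGroup W] [Module F W] [AddCommGroup V] [Module F V]
  {t : U →ₗ[F] W →ₗ[F] V} {QU : QuadraticForm F U} {QW : QuadraticForm F W} {Q : QuadraticForm F V}
  {X : Subgroup (V ≃ₗ[F] V)}

/-- expansion in a basis of `U` -/
theorem expand_basis (ht : IsTensorProduct t) {ι : Type*} [Fintype ι] (b : Module.Basis ι F U) (v : V) :
    v = ∑ i, t (b i) (cU ht (b.coord i) v) := by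
  classical
  have : LinearMap.id = ∑ i, (t (b i)) ∘ₗ cU ht (b.coord i) := by
    refine ext_t ht fun u w => ?_
    rw [LinearMap.sum_apply]
    simp only [LinearMap.comp_apply, cU_apply, LinearMap.id_apply, map_smul, Module.Basis.coord_apply]
    conv_lhs => rw [← b.sum_repr u]
    rw [map_sum, LinearMap.sum_apply]
    refine Finset.sum_congr rfl fun i _ => ?_
    rw [map_smul, LinearMap.smul_apply]
  have h := LinearMap.congr_fun this v
  rw [LinearMap.sum_apply] at h
  exact h

/-- The vectors with all left contractions in `M`. -/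
def RR (ht : IsTensorProduct t) (M : Submodule F W) : Submodule F V where
  carrier := {v | ∀ φ : U →ₗ[F] F, cU ht φ v ∈ M}
  add_mem' := by
    intro a b ha hb φ
    rw [map_add]
    exact M.add_mem (ha φ) (hb φ)
  zero_mem' := by
    intro φ
    rw [map_zero]
    exact M.zero_mem
  smul_mem' := by
    intro c a ha φ
    rw [map_smul]
    exact M.smul_mem c (ha φ)

theorem finrank_RR_le (ht : IsTensorProduct t) [FiniteDimensional F U] [FiniteDimensional F W] (M : Submodule F W) :
    Module.finrank F (RR ht M) ≤ Module.finrank F U * Module.finrank F M := by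
  classical
  let b := Module.finBasis F U
  let f : RR ht M →ₗ[F] (Fin (Module.finrank F U) → M) :=
    LinearMap.pi fun i => ((cU ht (b.coord i)) ∘ₗ (RR ht M).subtype).codRestrict M fun v => v.2 _
  have hf : Function.Injective f := by
    rw [← LinearMap.ker_eq_bot, LinearMap.ker_eq_bot']
    intro v hv
    apply Subtype.ext
    rw [expand_basis ht b (v : V)]
    refine Finset.sum_eq_zero fun i _ => ?_
    have h1 := congrArg Subtype.val (congrFun hv i)
    have h2 : cU ht (b.coord i) (v : V) = 0 := h1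
    rw [h2, map_zero]
  have h1 := LinearMap.finrank_le_finrank_of_injective hf
  rw [Module.finrank_pi_fintype] at h1
  simpa using h1

namespace TSt

variable (S : TSt t QU QW Q)

include S

/-- **The shape of the involution.** -/
theorem invol_shape [FiniteDimensional F W] (hW : Good QW) {w x : W} (hw : QW w = 0) (hx : QW x = 0)
    (hwx : polar QW w x = 0) (hw0 : w ≠ 0) (hind : ∀ c : F, x ≠ c • w) {z : V ≃ₗ[F] V}
    (hzT : z ∈ TT t S.ten) (hzO : z ∈ O Q) [Nontrivial U]
    (hzz : z * z = 1) (hz1 : z ≠ 1) (hzd : z * Ten.rW S.ten (siegel QW w x hw hwx) =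
      Ten.rW S.ten (siegel QW w x hw hwx) * z)
    (hzv : ∀ v, Ten.rW S.ten (siegel QW w x hw hwx) v = v → ∃ v', z v - v =
      Ten.rW S.ten (siegel QW w x hw hwx) v' - v') :
    ∃ l : W →ₗ[F] W, (∀ u y, z (t u y) = t u (l y)) ∧ l w = -w ∧ l x = -x ∧
      ∀ y, polar QW w y = 0 → polar QW x y = 0 → ∃ α β : F, l y - y = α • w + β • x := by
  obtain ⟨k, l0, hkl⟩ := hzT
  have hzt : ∀ u y, z (t u y) = t (k u) (l0 y) := fun u y => by rw [hkl, tm_apply]
  have hwx' : polar QW x w = 0 := by rw [polar_comm]; exact hwx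
  -- fixed vectors of `d`
  have hfix : ∀ u y, polar QW w y = 0 → polar QW x y = 0 →
      ∃ v', z (t u y) - t u y = t (S.cw w v') x - t (S.cw x v') w := by
    intro u y h1 h2
    obtain ⟨v', hv'⟩ := hzv (t u y) (by rw [rW_apply, siegel_apply, h1, h2]; simp)
    exact ⟨v', by rw [hv', S.siegel_sub hw hx hwx]⟩
  -- `k` is a scalar
  have hksc : ∀ u, ∃ c : F, k u = c • u := by
    intro u
    by_contra hcon
    push Not at hcon
    obtain ⟨φ, hφ1, hφ2⟩ := exists_ne_of_ne hcon
    have hl0 : ∀ y, polar QW w y = 0 → polar QW x y = 0 → l0 y ∈ Submodule.span F {w, x} := by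
      intro y h1 h2
      obtain ⟨v', hv'⟩ := hfix u y h1 h2
      have h3 := congrArg (cU S.ten φ) hv'
      rw [hzt, map_sub, map_sub, cU_apply, cU_apply, cU_apply, cU_apply, hφ1, zero_smul, sub_zero] at h3
      have h4 : l0 y = (φ (k u))⁻¹ • (φ (S.cw w v') • x - φ (S.cw x v') • w) := by
        rw [← h3, smul_smul, inv_mul_cancel₀ hφ2, one_smul]
      rw [h4]
      refine Submodule.smul_mem _ _ (Submodule.sub_mem _ (Submodule.smul_mem _ _ (Submodule.subset_span (by simp)))
        (Submodule.smul_mem _ _ (Submodule.subset_span (by simp))))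
    let f : W →ₗ[F] F × F := (polarBilin QW w).prod (polarBilin QW x)
    have h1 := LinearMap.finrank_range_add_finrank_ker f
    have h2 : Module.finrank F (LinearMap.range f) ≤ 2 := by
      refine le_trans (Submodule.finrank_le _) ?_
      rw [Module.finrank_prod, Module.finrank_self]
    have h3 : (LinearMap.ker f).map (l0 : W →ₗ[F] W) ≤ Submodule.span F {w, x} := by
      rintro _ ⟨y, hy, rfl⟩
      have h4 := LinearMap.mem_ker.1 hy
      exact hl0 y (congrArg Prod.fst h4) (congrArg Prod.snd h4)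
    have h4 := Submodule.finrank_mono h3
    have h5 : Module.finrank F ((LinearMap.ker f).map (l0 : W →ₗ[F] W)) = Module.finrank F (LinearMap.ker f) :=
      LinearEquiv.finrank_map_eq l0 _
    have h6 : Module.finrank F (Submodule.span F {w, x}) ≤ 2 := by
      classical
      refine (finrank_span_le_card ({w, x} : Set W)).trans ?_
      rw [Set.toFinset_insert, Set.toFinset_singleton]
      exact Finset.card_le_two
    have := hW.dim
    omega
  obtain ⟨c, hc⟩ := scalar_of_all (k : U →ₗ[F] U) hksc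
  have hc' : ∀ u, k u = c • u := hc
  let l : W →ₗ[F] W := c • (l0 : W →ₗ[F] W)
  have hzl : ∀ u y, z (t u y) = t u (l y) := by
    intro u y
    rw [hzt, hc', map_smul, LinearMap.smul_apply]
    show _ = t u (c • l0 y)
    rw [map_smul]
  obtain ⟨u0, hu0⟩ := exists_ne (0 : U)
  obtain ⟨u1, hu1⟩ := S.ndU.exists_polar_eq hu0 1
  obtain ⟨φ, hφ⟩ := Module.Projective.exists_dual_ne_zero F hu0
  have hll : ∀ y, l (l y) = y := by
    intro y
    refine t_right_inj S.ten hu0 ?_
    rw [← hzl, ← hzl]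
    exact LinearEquiv.congr_fun hzz (t u0 y)
  have hlO : ∀ y y', polar QW (l y) (l y') = polar QW y y' := by
    intro y y'
    have h1 := polar_map hzO (t u0 y) (t u1 y')
    rw [hzl, hzl, S.pol, S.pol, hu1, one_mul, one_mul] at h1
    exact h1
  have hlL : ∀ y, polar QW w y = 0 → polar QW x y = 0 → ∃ α β : F, l y - y = α • w + β • x := by
    intro y h1 h2
    obtain ⟨v', hv'⟩ := hfix u0 y h1 h2
    have h3 := congrArg (cU S.ten φ) hv'
    rw [hzl, map_sub, map_sub, cU_apply, cU_apply, cU_apply, cU_apply, ← smul_sub] at h3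
    have h3' : (φ u0)⁻¹ • φ u0 • (l y - y) = (φ u0)⁻¹ • (φ (S.cw w v') • x - φ (S.cw x v') • w) := by rw [h3]
    rw [smul_smul, inv_mul_cancel₀ hφ, one_smul] at h3'
    refine ⟨-((φ u0)⁻¹ * φ (S.cw x v')), (φ u0)⁻¹ * φ (S.cw w v'), ?_⟩
    rw [h3']
    module
  -- commutation with `d`
  have hcomm : ∀ y, polar QW w y • l x - polar QW x y • l w = polar QW (l w) y • x - polar QW (l x) y • w := by
    intro y
    have h1 := LinearEquiv.congr_fun hzd (t u0 y)
    have h2 : z (Ten.rW S.ten (siegel QW w x hw hwx) (t u0 y)) =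
      Ten.rW S.ten (siegel QW w x hw hwx) (z (t u0 y)) := h1
    rw [rW_apply, hzl, hzl, rW_apply] at h2
    have h3 := t_right_inj S.ten hu0 h2
    rw [siegel_apply, siegel_apply, hx] at h3
    have e1 : polar QW w (l y) = polar QW (l w) y := by rw [← hlO, hll]
    have e2 : polar QW x (l y) = polar QW (l x) y := by rw [← hlO, hll]
    rw [e1, e2] at h3
    simp only [map_add, map_sub, map_smul, zero_mul, zero_smul, sub_zero] at h3
    have h4 : l y + (polar QW w y • l x - polar QW x y • l w) =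
        l y + (polar QW (l w) y • x - polar QW (l x) y • w) := by
      rw [← add_sub_assoc, h3]; abel
    exact add_left_cancel h4
  obtain ⟨a, b, hab⟩ := hlL w (polar_self_of_sing hw) hwx'
  obtain ⟨a', b', hab'⟩ := hlL x hwx (polar_self_of_sing hx)
  obtain ⟨y1, hy1, hy1'⟩ := exists_sep S.ndW hind
  have hind' : ∀ c : F, w ≠ c • x := by
    intro c hc
    have hc0 : c ≠ 0 := by
      rintro rfl
      exact hw0 (by rw [hc, zero_smul])
    exact hind c⁻¹ (by rw [hc, smul_smul, inv_mul_cancel₀ hc0, one_smul])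
  obtain ⟨y2, hy2, hy2'⟩ := exists_sep S.ndW hind'
  -- independence
  have indep : ∀ α β : F, α • w + β • x = 0 → α = 0 ∧ β = 0 := by
    intro α β h
    have h1 := congrArg (fun v => polar QW v y1) h
    have h2 := congrArg (fun v => polar QW v y2) h
    simp only [polar_add_left, polar_smul_left, hy1, hy1', hy2, hy2',
      polar_zero_left, smul_eq_mul, mul_zero, mul_one, zero_add, add_zero] at h1 h2
    exact ⟨h2, h1⟩
  have hlw : l w = (1 + a) • w + b • x := by
    have : l w = w + (l w - w) := by abel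
    rw [this, hab]; module
  have hlx : l x = a' • w + (1 + b') • x := by
    have : l x = x + (l x - x) := by abel
    rw [this, hab']; module
  have c1 := hcomm y1
  have c2 := hcomm y2
  rw [hlw, hlx] at c1 c2
  simp only [polar_add_left, polar_smul_left, hy1, hy1', hy2, hy2', smul_eq_mul, mul_zero, mul_one, zero_add,
    add_zero, zero_smul, one_smul, zero_sub, sub_zero] at c1 c2
  have d1 := indep ((1 + a) - (1 + b')) (2 * b) (by
    have : ((1 + a) - (1 + b')) • w + (2 * b) • x = (b • x - (1 + b') • w) - -((1 + a) • w + b • x) := by module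
    rw [this, ← c1, sub_self])
  have d2 := indep (2 * a') ((1 + b') - (1 + a)) (by
    have : (2 * a') • w + ((1 + b') - (1 + a)) • x = (a' • w + (1 + b') • x) - ((1 + a) • x - a' • w) := by module
    rw [this, ← c2, sub_self])
  have hb0 : b = 0 := (mul_eq_zero.1 d1.2).resolve_left S.two
  have ha'0 : a' = 0 := (mul_eq_zero.1 d2.1).resolve_left S.two
  have hbb : 1 + b' = 1 + a := sub_eq_zero.1 d2.2
  rw [hb0, zero_smul, add_zero] at hlw
  rw [ha'0, zero_smul, zero_add, hbb] at hlx
  have hsq : (1 + a) * (1 + a) = 1 := by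
    have h1 := hll w
    rw [hlw, map_smul, hlw, smul_smul] at h1
    have h2 := indep ((1 + a) * (1 + a) - 1) 0 (by rw [zero_smul, add_zero, sub_smul, h1, one_smul, sub_self])
    exact sub_eq_zero.1 h2.1
  have hcase : 1 + a = 1 ∨ 1 + a = -1 := mul_self_eq_one_iff.1 hsq
  rcases hcase with h | h
  · exfalso
    rw [h, one_smul] at hlw hlx
    -- `l = 1` on `L^⊥`
    have h1 : ∀ y, polar QW w y = 0 → polar QW x y = 0 → l y = y := by
      intro y hy hy'
      obtain ⟨α, β, hαβ⟩ := hlL y hy hy'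
      have h2 : l (l y - y) = l y - y := by rw [hαβ, map_add, map_smul, map_smul, hlw, hlx]
      rw [map_sub, hll] at h2
      have h3 : (2 : F) • (l y - y) = 0 := by
        have : (2 : F) • (l y - y) = (l y - y) - (y - l y) := by module
        rw [this, h2, sub_self]
      exact sub_eq_zero.1 ((smul_eq_zero.1 h3).resolve_left S.two)
    have h2 : ∀ y, l y = y := by
      intro y
      have h3 : l (l y - y) = l y - y := by
        apply h1
        · rw [polar_sub_right]
          have : polar QW w (l y) = polar QW (l w) y := by rw [← hlO, hll]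
          rw [this, hlw, sub_self]
        · rw [polar_sub_right]
          have : polar QW x (l y) = polar QW (l x) y := by rw [← hlO, hll]
          rw [this, hlx, sub_self]
      rw [map_sub, hll] at h3
      have h4 : (2 : F) • (l y - y) = 0 := by
        have : (2 : F) • (l y - y) = (l y - y) - (y - l y) := by module
        rw [this, h3, sub_self]
      exact sub_eq_zero.1 ((smul_eq_zero.1 h4).resolve_left S.two)
    apply hz1
    refine ext_t' S.ten fun u y => ?_
    rw [hzl, h2]
    rfl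
  · rw [h] at hlw hlx
    exact ⟨l, hzl, by rw [hlw]; module, by rw [hlx]; module, hlL⟩

/-- **Main theorem**: a proper overgroup of the tensor group is contained in the tensor group. -/
theorem le_TT [Finite F] [FiniteDimensional F U] [FiniteDimensional F W] [FiniteDimensional F V]
    (hX : Prop1 S X) (hab : Module.finrank F U < Module.finrank F W) : X ≤ TT t S.ten := by
  intro g hg
  by_contra hgT
  have hO := S.ovg hX
  have hgO := hO.le hg
  have hUn : Nontrivial U := Module.nontrivial_of_finrank_pos (R := F) (by have := hX.dU; omega)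
  have hgg : ∀ v, g (g⁻¹ v) = v := fun v => LinearEquiv.apply_symm_apply g _
  have hgg' : ∀ v, g⁻¹ (g v) = v := fun v => LinearEquiv.symm_apply_apply g _
  obtain ⟨p, hp⟩ := CharP.exists F
  have hpp : p.Prime := CharP.char_is_prime F p
  have hpf : Fact p.Prime := ⟨hpp⟩
  have : Finite V := Module.finite_of_finite F
  have hfin : Finite (V ≃ₗ[F] V) :=
    Finite.of_injective (fun g : V ≃ₗ[F] V => (g : V → V)) DFunLike.coe_injective
  -- the base line
  obtain ⟨w0, w0', hyp0⟩ := hX.hW.exists_hyp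
  obtain ⟨x0, x0', hyp1, q1, q2, q3, q4⟩ := hX.hW.exists_hyp2 hyp0
  have hind0 : ∀ c : F, x0 ≠ c • w0 := by
    intro c hc
    have h5 := q3
    rw [hc, polar_smul_right, hyp0.pair'] at h5
    have hc0 : c = 0 := by simpa using h5
    exact hyp1.left_ne (by rw [hc, hc0, zero_smul])
  set d0 := Ten.rW S.ten (siegel QW w0 x0 hyp0.left q1) with hd0
  have hd0X : d0 ∈ X := hO.rW _ (siegel_mem_E _ _)
  -- `d² ` facts
  have hdsq : ∀ (w x : W) (hw : QW w = 0) (hx : QW x = 0) (hwx : polar QW w x = 0) (v : V),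
      Ten.rW S.ten (siegel QW w x hw hwx) (Ten.rW S.ten (siegel QW w x hw hwx) v - v) =
        Ten.rW S.ten (siegel QW w x hw hwx) v - v := by
    intro w x hw hx hwx v
    have h1 := S.siegel_sub_sq hw hwx v
    rw [hx, mul_zero, neg_zero, zero_smul] at h1
    exact sub_eq_zero.1 h1
  have hTI : ∀ (w x : W) (hw : QW w = 0) (_ : QW x = 0) (hwx : polar QW w x = 0) (_ : w ≠ 0)
      (_ : ∀ c : F, x ≠ c • w) (h : V ≃ₗ[F] V), h ∈ X →
      h * Ten.rW S.ten (siegel QW w x hw hwx) * h⁻¹ ∈ TT t S.ten → h ∈ TT t S.ten :=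
    fun w x hw hx hwx hw0 hind h hh hhT => S.mem_TT_of_conj hX hab hw hx hwx hw0 hind hh hhT
  set s := g * d0 * g⁻¹ with hs
  have hsX : s ∈ X := X.mul_mem (X.mul_mem hg hd0X) (X.inv_mem hg)
  have hsv : ∀ v, s v = g (d0 (g⁻¹ v)) := fun v => rfl
  have hs2 : ∀ v, s (s v - v) = s v - v := by
    intro v
    have h5 : g (d0 (g⁻¹ v) - g⁻¹ v) = s v - v := by rw [map_sub g, hgg, hsv]
    rw [← h5, hsv, hgg', hdsq w0 x0 hyp0.left hyp1.left q1]
  -- the support of `g (U ⊗ L₀)`
  let M : Submodule F W := Submodule.span F {y | ∃ (φ : U →ₗ[F] F) (u : U), y = cU S.ten φ (g (t u w0)) ∨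
    y = cU S.ten φ (g (t u x0))}
  -- the main property
  have hmain : ∀ w x : W, QW w = 0 → QW x = 0 → polar QW w x = 0 → w ≠ 0 → (∀ c : F, x ≠ c • w) →
      ∀ y ∈ M, polar QW w y = 0 → polar QW x y = 0 → ∃ α β : F, y = α • w + β • x := by
    intro w x hw hx hwx hw0 hind
    set d := Ten.rW S.ten (siegel QW w x hw hwx) with hd
    have hdX : d ∈ X := hO.rW _ (siegel_mem_E _ _)
    have hd2 := hdsq w x hw hx hwx
    rw [← hd] at hd2
    have hnp : ¬ IsPGroup p (Subgroup.closure ({d, s} : Set (V ≃ₗ[F] V))) := by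
      intro hpg
      have hle : Subgroup.closure ({d, s} : Set (V ≃ₗ[F] V)) ≤ X := by
        rw [Subgroup.closure_le]
        rintro y (rfl | hy)
        · exact hdX
        · rw [Set.mem_singleton_iff] at hy; subst hy; exact hsX
      have h1 := Cfsg.Agent.H891.QP.pgroup_le hpp X (TT t S.ten ⊓ X) {d}
        (by rintro y rfl; exact ⟨⟨tm_mem_TT _ _ _, hdX⟩, 1, by rw [pow_one]; exact pow_char_of_sq hd2⟩)
        (by rintro y rfl; exact hdX)
        (by
          rintro y rfl h hh hhT
          exact ⟨hTI w x hw hx hwx hw0 hind h hh hhT.1, hh⟩)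
        (s := d) rfl (Subgroup.closure ({d, s} : Set (V ≃ₗ[F] V))) hle hpg (Subgroup.subset_closure (by simp))
      have h2 := (h1 (Subgroup.subset_closure (by simp : s ∈ ({d, s} : Set (V ≃ₗ[F] V))))).1
      exact hgT (hTI w0 x0 hyp0.left hyp1.left q1 hyp0.left_ne hind0 g hg h2)
    obtain ⟨z, hzX, hzz, hz1, hzd, hzs, hz2, hz3⟩ := Pair.exists_z S.two X hdX hsX hd2 hs2 hnp
    have hzT : z ∈ TT t S.ten := by
      refine hTI w x hw hx hwx hw0 hind z hzX ?_
      rw [← hd, hzd, mul_inv_cancel_right]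
      exact tm_mem_TT _ _ _
    obtain ⟨l, hl, hlw, hlx, hlL⟩ := S.invol_shape hX.hW hw hx hwx hw0 hind hzT (hO.le hzX) hzz hz1 hzd hz2
    -- the conjugate
    set z' := g⁻¹ * z * g with hz'
    have hz'X : z' ∈ X := X.mul_mem (X.mul_mem (X.inv_mem hg) hzX) hg
    have hz'd : z' * d0 = d0 * z' := by
      have h1 : z * (g * d0 * g⁻¹) = (g * d0 * g⁻¹) * z := hzs
      calc z' * d0 = g⁻¹ * (z * (g * d0 * g⁻¹)) * g := by rw [hz']; group
        _ = g⁻¹ * ((g * d0 * g⁻¹) * z) * g := by rw [h1]
        _ = d0 * z' := by rw [hz']; group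
    have hz'T : z' ∈ TT t S.ten := by
      refine hTI w0 x0 hyp0.left hyp1.left q1 hyp0.left_ne hind0 z' hz'X ?_
      rw [← hd0, hz'd, mul_inv_cancel_right]
      exact tm_mem_TT _ _ _
    have hz'z' : z' * z' = 1 := by
      calc z' * z' = g⁻¹ * (z * z) * g := by rw [hz']; group
        _ = 1 := by rw [hzz]; group
    have hz'1 : z' ≠ 1 := by
      intro h
      apply hz1
      calc z = g * z' * g⁻¹ := by rw [hz']; group
        _ = 1 := by rw [h]; group
    have hz'v : ∀ v, z' v = g⁻¹ (z (g v)) := fun v => rfl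
    obtain ⟨l', hl', hl'w, hl'x, -⟩ := S.invol_shape hX.hW hyp0.left hyp1.left q1 hyp0.left_ne hind0 hz'T
      (hO.le hz'X) hz'z' hz'1 hz'd (by
        intro v hv
        have h1 : s (g v) = g v := by rw [hsv, hgg', hv]
        obtain ⟨v', hv'⟩ := hz3 (g v) h1
        refine ⟨g⁻¹ v', ?_⟩
        rw [hz'v]
        have h2 := congrArg (g⁻¹ : V ≃ₗ[F] V) hv'
        rw [map_sub, map_sub, hsv, hgg', hgg'] at h2
        exact h2)
    have hzg0 : ∀ u, z (g (t u w0)) = - g (t u w0) := by
      intro u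
      have h1 := hl' u w0
      rw [hz'v, hl'w] at h1
      have h2 := congrArg g h1
      rw [hgg] at h2
      rw [h2, map_neg, map_neg]
    have hzgx : ∀ u, z (g (t u x0)) = - g (t u x0) := by
      intro u
      have h1 := hl' u x0
      rw [hz'v, hl'x] at h1
      have h2 := congrArg g h1
      rw [hgg] at h2
      rw [h2, map_neg, map_neg]
    have hcz : ∀ (φ : U →ₗ[F] F) v, cU S.ten φ (z v) = l (cU S.ten φ v) := by
      intro φ
      have : cU S.ten φ ∘ₗ (z : V →ₗ[F] V) = l ∘ₗ cU S.ten φ := by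
        refine ext_t S.ten fun u y => ?_
        show cU S.ten φ (z (t u y)) = l (cU S.ten φ (t u y))
        rw [hl, cU_apply, cU_apply, map_smul]
      exact fun v => LinearMap.congr_fun this v
    have hneg : ∀ y ∈ M, l y = -y := by
      intro y hy
      induction hy using Submodule.span_induction with
      | mem y hy =>
        obtain ⟨φ, u, h | h⟩ := hy
        · rw [h, ← hcz, hzg0, map_neg]
        · rw [h, ← hcz, hzgx, map_neg]
      | zero => simp
      | add a b _ _ ha hb => rw [map_add, ha, hb]; abel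
      | smul c a _ ha => rw [map_smul, ha, smul_neg]
    intro y hy h1 h2
    obtain ⟨α, β, hαβ⟩ := hlL y h1 h2
    rw [hneg y hy] at hαβ
    have h3 : y = (-(2 : F)⁻¹) • (-y - y) := by
      have : (-(2 : F)⁻¹) • (-y - y) = ((2 : F)⁻¹ * 2) • y := by module
      rw [this, inv_mul_cancel₀ S.two, one_smul]
    refine ⟨-(2 : F)⁻¹ * α, -(2 : F)⁻¹ * β, ?_⟩
    rw [h3, hαβ]
    module
  -- the dimension of `M`
  have hM : 3 ≤ Module.finrank F M := by
    by_contra hlt
    push Not at hlt
    let f : (U × U) →ₗ[F] V := (g : V →ₗ[F] V) ∘ₗ ((t.flip w0).coprod (t.flip x0))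
    have hf : ∀ a b, f (a, b) = g (t a w0 + t b x0) := fun a b => by simp [f]
    have hfinj : Function.Injective f := by
      rw [← LinearMap.ker_eq_bot, LinearMap.ker_eq_bot']
      rintro ⟨a, b⟩ hab'
      rw [hf] at hab'
      have h1 : t a w0 + t b x0 = 0 := g.injective (by rw [hab', map_zero])
      have h2 := congrArg (S.cw w0') h1
      have h3 := congrArg (S.cw x0') h1
      have e1 : polar QW x0' w0 = 0 := by rw [polar_comm]; exact q2
      have e2 : polar QW w0' x0 = 0 := q3
      simp only [map_add, S.cw_t, hyp0.pair', hyp1.pair', e1, e2, zero_smul, one_smul, add_zero, zero_add,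
        map_zero] at h2 h3
      rw [h2, h3]; rfl
    have hle : LinearMap.range f ≤ RR S.ten M := by
      rintro _ ⟨⟨a, b⟩, rfl⟩
      intro φ
      rw [hf, map_add, map_add]
      exact M.add_mem (Submodule.subset_span ⟨φ, a, Or.inl rfl⟩) (Submodule.subset_span ⟨φ, b, Or.inr rfl⟩)
    have e1 := LinearMap.finrank_range_of_inj hfinj
    rw [Module.finrank_prod] at e1
    have e2 := finrank_RR_le S.ten M
    have e3 : Module.finrank F U * Module.finrank F M ≤ Module.finrank F U * 2 :=
      Nat.mul_le_mul_left _ (by omega)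
    have heq : LinearMap.range f = RR S.ten M := Submodule.eq_of_le_of_finrank_le hle (by omega)
    -- a nonzero vector of `M`
    obtain ⟨u0, hu0⟩ := exists_ne (0 : U)
    have hne : g (t u0 w0) ≠ 0 := by
      intro h
      exact t_ne S.ten hu0 hyp0.left_ne (g.injective (by rw [h, map_zero]))
    let bb := Module.finBasis F U
    obtain ⟨i, hi⟩ : ∃ i, cU S.ten (bb.coord i) (g (t u0 w0)) ≠ 0 := by
      by_contra hcon
      push Not at hcon
      apply hne
      rw [expand_basis S.ten bb (g (t u0 w0))]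
      exact Finset.sum_eq_zero fun i _ => by rw [hcon i, map_zero]
    set y := cU S.ten (bb.coord i) (g (t u0 w0)) with hy
    have hyM : y ∈ M := Submodule.subset_span ⟨_, _, Or.inl rfl⟩
    apply hgT
    refine S.mem_TT_of_line hX hyp0.left hyp1.left q1 hind0 hyp0.left_ne hg hi fun u => ?_
    have h1 : t u y ∈ RR S.ten M := by
      intro φ
      rw [cU_apply]
      exact M.smul_mem _ hyM
    rw [← heq] at h1
    obtain ⟨⟨a, b⟩, hab'⟩ := h1
    rw [hf] at hab'
    refine ⟨a, b, ?_⟩
    rw [← hab', hgg']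
  exact false_of_lines hX.hW hM hmain

end TSt

end Cfsg.Agent.H882.Ten
end

-- part: H882/Ten/Wrap
section
/-!
# Orthogonal tensor decompositions: maximality of the stabiliser, matrix version
-/

set_option autoImplicit false

namespace Cfsg.Agent.H882.Ten

open QuadraticMap hiding proj
open Cfsg.Agent.LieClassical.OrthCore Cfsg.Agent.LieClassical.OrthTrans
open Cfsg.Agent.LieClassical.OrthFinite Cfsg.Agent.H883.Bridge Cfsg.Agent.H883.Tensor

section abs

variable {F : Type*} {U : Type*} {W : Type*} {V : Type*} [Field F] [AddCommGroup U] [Module F U]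
  [AddCommGroup W] [Module F W] [AddCommGroup V] [Module F V]
variable {t : U →ₗ[F] W →ₗ[F] V} {QU : QuadraticForm F U} {QW : QuadraticForm F W} {Q : QuadraticForm F V}

theorem TSt.not_E_le (S : TSt t QU QW Q) (hW : Good QW) (hG : Good Q) {x y : U} (hxy : Hyp QU x y) :
    ¬ E Q ≤ TT t S.ten := by
  intro hle
  obtain ⟨w, w', hyp⟩ := hW.exists_hyp
  obtain ⟨z, z', hyp', q1, q2, q3, q4⟩ := hW.exists_hyp2 hyp
  have hs1 : Q (t x w) = 0 := S.sing_left hxy.left w
  have hs2 : Q (t x w + t y z) = 0 := by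
    rw [Q_add, S.sing_left hxy.left, S.sing_left hxy.right, S.pol, q1]; ring
  have hc1 : S.cu y (t x w + t y z) = w := by
    rw [map_add, S.cu_t, S.cu_t, hxy.pair', hxy.polar_right]; simp
  have hc2 : S.cu x (t x w + t y z) = z := by
    rw [map_add, S.cu_t, S.cu_t, hxy.pair, hxy.polar_left]; simp
  have hne : t x w + t y z ≠ 0 := by
    intro h
    rw [h, map_zero] at hc1
    exact hyp.left_ne hc1.symm
  obtain ⟨g, hg, hgx⟩ := hG.trans_sing hs1 hs2 (t_ne S.ten hxy.left_ne hyp.left_ne) hne
  obtain ⟨k, l, rfl⟩ := hle hg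
  rw [tm_apply] at hgx
  rw [← hgx, S.cu_t] at hc1 hc2
  have e1 : polar QU y (k x) * polar QW w' (l w) = 1 := by
    rw [← smul_eq_mul, ← polar_smul_right, hc1, hyp.pair']
  have e2 : polar QU x (k x) * polar QW w' (l w) = 0 := by
    rw [← smul_eq_mul, ← polar_smul_right, hc2, q3]
  have e3 : polar QU x (k x) = 0 := by
    refine (mul_eq_zero.1 e2).resolve_right fun h => ?_
    rw [h, mul_zero] at e1
    exact zero_ne_one e1
  rw [e3, zero_smul] at hc2
  exact hyp'.left_ne hc2.symm

/-- **Maximality, coordinate free.** -/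
theorem TSt.isMaximalIn [Finite F] [FiniteDimensional F U] [FiniteDimensional F W] [FiniteDimensional F V]
    (S : TSt t QU QW Q) (hW : Good QW) (hG : Good Q) (hd : 3 ≤ Module.finrank F U) (hPU : PU QU)
    (hexc : 4 ≤ Module.finrank F U ∨ ∃ c : F, c ≠ 0 ∧ c * c ≠ 1)
    (hab : Module.finrank F U < Module.finrank F W) :
    Cfsg.Geo.IsMaximalIn (E Q) (TT t S.ten ⊓ E Q) := by
  obtain ⟨x, -, hx0, hx⟩ := exists_sing_mem (Q := QU) (⊤ : Submodule F U) (by rwa [finrank_top])
  obtain ⟨y, hxy⟩ := LieClassical.OrthTrans.exists_hyp S.ndU hx hx0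
  have hne := S.not_E_le hW hG hxy
  refine ⟨lt_of_le_of_ne inf_le_right fun h => hne ?_, fun M hM1 hM2 => ?_⟩
  · rw [← h]; exact inf_le_left
  · by_cases hEM : E Q ≤ M
    · exact Or.inr (le_antisymm hM2 hEM)
    · left
      refine le_antisymm (le_inf ?_ hM2) hM1
      exact S.le_TT ⟨hM2, hM1, hEM, hW, hG, hd, ⟨x, y, hxy⟩, hPU, hexc⟩ hab

/-- The condition `PU`. -/
theorem pu_of [FiniteDimensional F U] (hQ : Nondeg QU)
    (hd : 5 ≤ Module.finrank F U ∨ Module.finrank F U ≤ 3 ∨
      ∀ T : Submodule F U, (∀ w ∈ T, QU w = 0) → Module.finrank F T ≠ 2) : PU QU := by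
  intro u v hu hv huv hu0 hind
  obtain ⟨y, hy1, hy2⟩ := exists_sep hQ hind
  have hypv : Hyp QU v (y - QU y • v) := by
    refine ⟨hv, ?_, ?_⟩
    · rw [sub_eq_add_neg, Q_add, QuadraticMap.map_neg, QuadraticMap.map_smul, hv, polar_neg_right,
        polar_smul_right, polar_comm QU y v, hy2]
      simp
    · rw [polar_sub_right, polar_smul_right, hy2, polar_self_of_sing hv]; simp
  have h1 : polar QU v u = 0 := by rw [polar_comm]; exact huv
  have h2 : polar QU (y - QU y • v) u = 0 := by
    rw [polar_sub_left, polar_smul_left, h1, polar_comm, hy1]; simp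
  obtain ⟨z, hz, hz1, hz2⟩ := exists_hyp_perp hQ hypv hu hu0 h1 h2
  set v' := y - QU y • v with hv'
  have h4 : ∀ a b c d : F, a • v + b • v' + c • u + d • z = 0 → a = 0 ∧ b = 0 ∧ c = 0 ∧ d = 0 := by
    intro a b c d h
    have e1 := congrArg (polar QU v') h
    have e2 := congrArg (polar QU v) h
    have e3 := congrArg (polar QU z) h
    have e4 := congrArg (polar QU u) h
    have hv'u : polar QU u v' = 0 := by rw [polar_comm]; exact h2
    have hzv : polar QU z v = 0 := by rw [polar_comm]; exact hz1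
    have hzv' : polar QU z v' = 0 := by rw [polar_comm]; exact hz2
    simp only [polar_add_right, polar_smul_right, hypv.pair, hypv.pair', hypv.polar_left, hypv.polar_right,
      hz.pair, hz.pair', hz.polar_left, hz.polar_right, h1, h2, hz1, hz2, hzv, hzv', huv, hv'u, smul_eq_mul,
      polar_zero_right, mul_zero, mul_one, add_zero, zero_add] at e1 e2 e3 e4
    exact ⟨e1, e2, e3, e4⟩
  rcases hd with hd | hd | hd
  · obtain ⟨a, c, ⟨ha1, ha2, ha3, ha4⟩, ⟨hc1, hc2, hc3, hc4⟩, hac⟩ :=
      exists_perp4 hQ hd hypv hz h1 hz1 h2 hz2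
    rcases exists_nonsing hac with h | h | h
    · exact ⟨a, ha3, ha1, h⟩
    · exact ⟨c, hc3, hc1, h⟩
    · exact ⟨a + c, by rw [polar_add_right, ha3, hc3, add_zero], by rw [polar_add_right, ha1, hc1, add_zero], h⟩
  · exfalso
    have hli : LinearIndependent F ![v, v', u, z] := by
      rw [Fintype.linearIndependent_iff]
      intro c hc
      rw [Fin.sum_univ_four] at hc
      obtain ⟨i1, i2, i3, i4⟩ := h4 (c 0) (c 1) (c 2) (c 3) hc
      intro i
      fin_cases i
      · exact i1
      · exact i2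
      · exact i3
      · exact i4
    have := hli.fintype_card_le_finrank
    rw [Fintype.card_fin] at this
    omega
  · exfalso
    have hli : LinearIndependent F ![v, u] := by
      rw [Fintype.linearIndependent_iff]
      intro c hc
      rw [Fin.sum_univ_two] at hc
      have hc' : c 0 • v + (0 : F) • v' + c 1 • u + (0 : F) • z = 0 := by
        rw [zero_smul, zero_smul, add_zero, add_zero]; exact hc
      obtain ⟨i1, -, i3, -⟩ := h4 _ _ _ _ hc'
      intro i
      fin_cases i
      · exact i1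
      · exact i3
    refine hd (Submodule.span F (Set.range ![v, u])) ?_ ?_
    · intro w hw
      rw [Submodule.mem_span_range_iff_exists_fun] at hw
      obtain ⟨c, rfl⟩ := hw
      rw [Fin.sum_univ_two]
      show QU (c 0 • v + c 1 • u) = 0
      rw [Q_add, QuadraticMap.map_smul, QuadraticMap.map_smul, hu, hv, polar_smul_left, polar_smul_right, h1]
      simp
    · rw [finrank_span_eq_card hli, Fintype.card_fin]

theorem isTensorProduct_flip {t : U →ₗ[F] W →ₗ[F] V} (ht : IsTensorProduct t) : IsTensorProduct t.flip := by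
  have : TensorProduct.lift t.flip = TensorProduct.lift t ∘ₗ (TensorProduct.comm F W U : _ →ₗ[F] _) := by
    apply TensorProduct.ext'
    intro x y
    simp
  rw [IsTensorProduct, this, LinearMap.coe_comp]
  exact ht.comp (TensorProduct.comm F W U).bijective

theorem exists_exc [Fintype F] (hodd : Odd (Fintype.card F)) (h3 : Fintype.card F ≠ 3) :
    ∃ c : F, c ≠ 0 ∧ c * c ≠ 1 := by
  classical
  by_contra hcon
  push Not at hcon
  have h1 : (Finset.univ : Finset F) ⊆ {0, 1, -1} := by
    intro c _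
    by_cases hc : c = 0
    · simp [hc]
    · rcases mul_self_eq_one_iff.1 (hcon c hc) with h | h <;> simp [h]
  have h2 := Finset.card_le_card h1
  rw [Finset.card_univ] at h2
  have h4 : (({0, 1, -1} : Finset F)).card ≤ 3 := Finset.card_le_three
  have h5 : 1 < Fintype.card F := Fintype.one_lt_card
  obtain ⟨k, hk⟩ := hodd
  omega

theorem two_ne [Fintype F] (hodd : Odd (Fintype.card F)) : (2 : F) ≠ 0 := by
  intro h2
  have h : ringChar F = 2 := by
    have h1 : ((2 : ℕ) : F) = 0 := by exact_mod_cast h2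
    have h3 : ringChar F ∣ 2 := (ringChar.spec F 2).1 h1
    have h4 : (ringChar F).Prime := CharP.char_is_prime F (ringChar F)
    exact (Nat.prime_dvd_prime_iff_eq h4 Nat.prime_two).1 h3
  have h5 : Fintype.card F % 2 = 0 := FiniteField.even_card_of_char_two h
  rw [Nat.odd_iff] at hodd
  omega

end abs

section coord

variable {ι : Type} [Fintype ι] [DecidableEq ι] {F : Type*} [Field F] {n₁ n₂ : ℕ}

theorem tmulBilin_isTensorProduct (n₁ n₂ : ℕ) (F : Type*) [Field F] :
    IsTensorProduct (tmulBilin n₁ n₂ F) := by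
  have hsurj : Function.Surjective (TensorProduct.lift (tmulBilin n₁ n₂ F)) := by
    intro z
    refine ⟨∑ i, TensorProduct.tmul F (Pi.single i (1 : F)) (fun j => z (i, j)), ?_⟩
    rw [map_sum]
    simp only [TensorProduct.lift.tmul, tmulBilin_apply]
    exact (eq_sum_tmul z).symm
  refine ⟨?_, hsurj⟩
  refine (LinearMap.injective_iff_surjective_of_finrank_eq_finrank ?_).2 hsurj
  rw [Module.finrank_tensorProduct, Module.finrank_fintype_fun_eq_card, Module.finrank_fintype_fun_eq_card,
    Module.finrank_fintype_fun_eq_card, Fintype.card_prod]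

omit [Fintype ι] [DecidableEq ι] in
theorem pureBilin_isTensorProduct [Fintype ι] [DecidableEq ι] (e : ι ≃ Fin n₁ × Fin n₂)
    (P : Matrix.GeneralLinearGroup ι F) : IsTensorProduct (pureBilin e P) :=
  (tmulBilin_isTensorProduct n₁ n₂ F).compr₂_linearEquiv (vec e P)

/-- A quadratic form with polar form `c f`. -/
theorem exists_qf (h2 : (2 : F) ≠ 0) {n : ℕ} {f : (Fin n → F) → (Fin n → F) → F}
    (hf : Cfsg.Geo.IsSymmetricForm f) {c : F} (hc : c ≠ 0) :
    ∃ q : QuadraticForm F (Fin n → F), (∀ x y, polar q x y = c * f x y) ∧ Nondeg q ∧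
      ∀ x, q x = 0 ↔ f x x = 0 := by
  let B : LinearMap.BilinMap F (Fin n → F) F :=
    LinearMap.mk₂ F f hf.bilinear.add_left (fun c x v => by rw [hf.bilinear.smul_left, smul_eq_mul])
      hf.bilinear.add_right (fun c v x => by rw [hf.bilinear.smul_right, smul_eq_mul])
  have hB : ∀ x y, B x y = f x y := fun _ _ => rfl
  let q : QuadraticForm F (Fin n → F) := LinearMap.BilinMap.toQuadraticMap ((c * 2⁻¹) • B)
  have hq : ∀ x y, polar q x y = c * f x y := by
    intro x y
    show polar (LinearMap.BilinMap.toQuadraticMap ((c * 2⁻¹) • B)) x y = _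
    rw [LinearMap.BilinMap.polar_toQuadraticMap]
    show (c * 2⁻¹) * f x y + (c * 2⁻¹) * f y x = _
    rw [hf.symm y x]
    field_simp
    ring
  refine ⟨q, hq, ?_, ?_⟩
  · intro x hx
    by_contra h0
    obtain ⟨-, ⟨z, hz⟩⟩ := hf.nondegenerate x h0
    have := hx z
    rw [hq] at this
    exact hz ((mul_eq_zero.1 this).resolve_left hc)
  · intro x
    show (c * 2⁻¹) * f x x = 0 ↔ f x x = 0
    constructor
    · intro h
      exact (mul_eq_zero.1 h).resolve_left (mul_ne_zero hc (inv_ne_zero h2))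
    · intro h; rw [h, mul_zero]

theorem mem_TT_iff (e : ι ≃ Fin n₁ × Fin n₂) (P g : Matrix.GeneralLinearGroup ι F)
    (ht : IsTensorProduct (pureBilin e P)) :
    g ∈ Cfsg.Geo.tensorProductSubgroup n₁ n₂ e P ↔ glEquiv ι F g ∈ TT (pureBilin e P) ht := by
  rw [mem_tensorProductSubgroup_iff]
  constructor
  · rintro ⟨a, b, h⟩
    refine mem_TT_of (k := glEquiv _ F a) (l := glEquiv _ F b) fun u w => ?_
    exact h u w
  · rintro ⟨k, l, h⟩
    obtain ⟨a, rfl⟩ := (glEquiv _ F).surjective k
    obtain ⟨b, rfl⟩ := (glEquiv _ F).surjective l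
    refine ⟨a, b, fun x y => ?_⟩
    have h1 := LinearEquiv.congr_fun h (pureBilin e P x y)
    rw [tm_apply] at h1
    exact h1

theorem mem_TT_flip_iff (e : ι ≃ Fin n₁ × Fin n₂) (P g : Matrix.GeneralLinearGroup ι F)
    (ht : IsTensorProduct (pureBilin e P).flip) :
    g ∈ Cfsg.Geo.tensorProductSubgroup n₁ n₂ e P ↔ glEquiv ι F g ∈ TT (pureBilin e P).flip ht := by
  rw [mem_tensorProductSubgroup_iff]
  constructor
  · rintro ⟨a, b, h⟩
    refine mem_TT_of (k := glEquiv _ F b) (l := glEquiv _ F a) fun u w => ?_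
    exact h w u
  · rintro ⟨k, l, h⟩
    obtain ⟨a, rfl⟩ := (glEquiv _ F).surjective k
    obtain ⟨b, rfl⟩ := (glEquiv _ F).surjective l
    refine ⟨b, a, fun x y => ?_⟩
    have h1 := LinearEquiv.congr_fun h ((pureBilin e P).flip y x)
    rw [tm_apply] at h1
    exact h1

/-- **Maximality of an orthogonal tensor decomposition stabiliser, `n₁ < n₂`.** -/
theorem maximal_of_lt [Finite F] (h2 : (2 : F) ≠ 0) {Q : (ι → F) → F}
    (hQ : Cfsg.Geo.IsNondegenerateQuadraticForm Q) (h1 : 3 ≤ n₁) (h12 : n₁ < n₂) (h5 : 5 ≤ n₂)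
    (hexc : 4 ≤ n₁ ∨ ∃ c : F, c ≠ 0 ∧ c * c ≠ 1) (e : ι ≃ Fin n₁ × Fin n₂)
    (P : Matrix.GeneralLinearGroup ι F) (f₁ : (Fin n₁ → F) → (Fin n₁ → F) → F)
    (f₂ : (Fin n₂ → F) → (Fin n₂ → F) → F) (hf₁ : Cfsg.Geo.IsSymmetricForm f₁)
    (hf₂ : Cfsg.Geo.IsSymmetricForm f₂)
    (hp : n₁ = 4 → ¬ Cfsg.Geo.IsPlusTypeOn (fun v : Fin n₁ → F => f₁ v v) ⊤)
    (hT : Cfsg.Geo.IsTensorFormStructure id (QuadraticMap.polar Q) f₁ f₂ e P) :
    Cfsg.Geo.IsMaximalIn (Cfsg.Geo.omegaGL Q)
      (Cfsg.Geo.tensorProductSubgroup n₁ n₂ e P ⊓ Cfsg.Geo.omegaGL Q) := by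
  obtain ⟨Q', rfl, hnd⟩ := exists_quadraticForm hQ
  have hcard : Fintype.card ι = n₁ * n₂ := by
    rw [Fintype.card_congr e, Fintype.card_prod, Fintype.card_fin, Fintype.card_fin]
  have hG : Good Q' := good_of_card hnd (by
    rw [hcard]
    have : 3 * 5 ≤ n₁ * n₂ := Nat.mul_le_mul h1 h5
    omega)
  obtain ⟨c, hc, hform⟩ := form_pure hf₁.bilinear hf₂.bilinear hT
  obtain ⟨QU, hU, ndU, zU⟩ := exists_qf h2 hf₁ hc
  obtain ⟨QW, hW, ndW, -⟩ := exists_qf h2 hf₂ one_ne_zero
  have S : TSt (pureBilin e P) QU QW Q' := by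
    refine ⟨pureBilin_isTensorProduct e P, h2, fun u w u' w' => ?_, ndU, ndW⟩
    rw [hU, hW, pureBilin_apply, pureBilin_apply, hform]
    ring
  have hfr : ∀ k : ℕ, Module.finrank F (Fin k → F) = k := fun k => Module.finrank_fin_fun F
  refine isMaximalIn_omegaGL hG _ (TT (pureBilin e P) S.ten) (fun g => mem_TT_iff e P g S.ten) ?_
  refine S.isMaximalIn (good_of_finite ndW (by rwa [hfr])) hG (by rwa [hfr]) (pu_of ndU ?_) (by rwa [hfr])
    (by rwa [hfr, hfr])
  rw [hfr]
  by_cases h4 : n₁ = 4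
  · right; right
    intro T hT hT2
    refine hp h4 ⟨T, le_top, fun w hw => (zU w).1 (hT w hw), ?_⟩
    rw [hT2, finrank_top, hfr, h4]
  · omega

/-- **Maximality of an orthogonal tensor decomposition stabiliser, `n₂ < n₁`.** -/
theorem maximal_of_gt [Finite F] (h2 : (2 : F) ≠ 0) {Q : (ι → F) → F}
    (hQ : Cfsg.Geo.IsNondegenerateQuadraticForm Q) (h1 : 3 ≤ n₂) (h12 : n₂ < n₁) (h5 : 5 ≤ n₁)
    (hexc : 4 ≤ n₂ ∨ ∃ c : F, c ≠ 0 ∧ c * c ≠ 1) (e : ι ≃ Fin n₁ × Fin n₂)
    (P : Matrix.GeneralLinearGroup ι F) (f₁ : (Fin n₁ → F) → (Fin n₁ → F) → F)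
    (f₂ : (Fin n₂ → F) → (Fin n₂ → F) → F) (hf₁ : Cfsg.Geo.IsSymmetricForm f₁)
    (hf₂ : Cfsg.Geo.IsSymmetricForm f₂)
    (hp : n₂ = 4 → ¬ Cfsg.Geo.IsPlusTypeOn (fun v : Fin n₂ → F => f₂ v v) ⊤)
    (hT : Cfsg.Geo.IsTensorFormStructure id (QuadraticMap.polar Q) f₁ f₂ e P) :
    Cfsg.Geo.IsMaximalIn (Cfsg.Geo.omegaGL Q)
      (Cfsg.Geo.tensorProductSubgroup n₁ n₂ e P ⊓ Cfsg.Geo.omegaGL Q) := by
  obtain ⟨Q', rfl, hnd⟩ := exists_quadraticForm hQ
  have hcard : Fintype.card ι = n₁ * n₂ := by
    rw [Fintype.card_congr e, Fintype.card_prod, Fintype.card_fin, Fintype.card_fin]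
  have hG : Good Q' := good_of_card hnd (by
    rw [hcard]
    have : 5 * 3 ≤ n₁ * n₂ := Nat.mul_le_mul h5 h1
    omega)
  obtain ⟨c, hc, hform⟩ := form_pure hf₁.bilinear hf₂.bilinear hT
  obtain ⟨QU, hU, ndU, zU⟩ := exists_qf h2 hf₂ one_ne_zero
  obtain ⟨QW, hW, ndW, -⟩ := exists_qf h2 hf₁ hc
  have S : TSt (pureBilin e P).flip QU QW Q' := by
    refine ⟨isTensorProduct_flip (pureBilin_isTensorProduct e P), h2, fun u w u' w' => ?_, ndU, ndW⟩
    rw [hU, hW, LinearMap.flip_apply, LinearMap.flip_apply, pureBilin_apply, pureBilin_apply, hform]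
    ring
  have hfr : ∀ k : ℕ, Module.finrank F (Fin k → F) = k := fun k => Module.finrank_fin_fun F
  refine isMaximalIn_omegaGL hG _ (TT (pureBilin e P).flip S.ten) (fun g => mem_TT_flip_iff e P g S.ten) ?_
  refine S.isMaximalIn (good_of_finite ndW (by rwa [hfr])) hG (by rwa [hfr]) (pu_of ndU ?_) (by rwa [hfr])
    (by rwa [hfr, hfr])
  rw [hfr]
  by_cases h4 : n₂ = 4
  · right; right
    intro T hT hT2
    refine hp h4 ⟨T, le_top, fun w hw => (zU w).1 (hT w hw), ?_⟩
    rw [hT2, finrank_top, hfr, h4]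
  · omega

end coord

end Cfsg.Agent.H882.Ten
end
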